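import Groth.Agent.Et18.PushDual.Dual

/-!
# Biduality for locally constant sheaves of `Z/n`-modules
-/

universe u

open CategoryTheory CategoryTheory.Limits AlgebraicGeometry Opposite MonoidalCategory
open Groth.Agent.Et18 Groth.Agent.Et18.Mod Groth.Agent.Et18.PicCx Groth.Agent.Et18.ExtSheaf

set_option backward.isDefEq.respectTransparency.types false
set_option backward.isDefEq.respectTransparency false
set_option synthInstance.maxHeartbeats 200000
set_option maxHeartbeats 1000000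
set_option linter.all false

noncomputable section

namespace Groth.Agent.Et18.PushDual

variable {X : Scheme.{u}}

theorem stalk_flip {Λ : Type (u + 1)} [CommRing Λ] (A B : EtModW.Mod Λ X) {Ω : Type u} [Field Ω] [IsSepClosed Ω]
    (ξ : Spec (CommRingCat.of Ω) ⟶ X) (a : (EtModW.stalk Λ ξ).obj A) (b : (EtModW.stalk Λ ξ).obj B) :
    (EtModW.stalk Λ ξ).map ((Mod.flipIso A).hom.app B) (ts ξ a b) = ts ξ b a := by
  let Φ := Scheme.pointSmallEtale ξ
  obtain ⟨V₁, w₁, s, rfl⟩ := Φ.toPresheafFiber_jointly_surjective (P := A.obj) a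
  obtain ⟨V₂, w₂, t, rfl⟩ := Φ.toPresheafFiber_jointly_surjective (P := B.obj) b
  obtain ⟨V, w, g, hg⟩ := exists_common_nhd ![V₁, V₂] (Fin.cases w₁ (Fin.cases w₂ fun i => i.elim0) : ∀ i, Φ.fiber.obj (![V₁, V₂] i))
  let g₁ : V ⟶ V₁ := g 0
  let g₂ : V ⟶ V₂ := g 1
  have e₁ : Φ.toPresheafFiber V₁ w₁ A.obj s = Φ.toPresheafFiber V w A.obj (A.obj.map g₁.op s) := by
    rw [← show Φ.fiber.map g₁ w = w₁ from hg 0]
    exact (Φ.toPresheafFiber_w_apply g₁ w A.obj s).symm
  have e₂ : Φ.toPresheafFiber V₂ w₂ B.obj t = Φ.toPresheafFiber V w B.obj (B.obj.map g₂.op t) := by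
    rw [← show Φ.fiber.map g₂ w = w₂ from hg 1]
    exact (Φ.toPresheafFiber_w_apply g₂ w _ t).symm
  erw [e₁, e₂]
  generalize A.obj.map g₁.op s = s'
  generalize B.obj.map g₂.op t = t'
  refine (congrArg ((EtModW.stalk Λ ξ).map ((Mod.flipIso A).hom.app B)) (germ_tsec ξ s' t' w).symm).trans ?_
  refine Eq.trans ?_ (germ_tsec ξ t' s' w)
  refine (Φ.toPresheafFiber_naturality_apply ((Mod.flipIso A).hom.app B).hom V w _).trans ?_
  refine congrArg (Φ.toPresheafFiber V w (Mod.tens B A).obj) ?_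
  exact congrArg (fun k => k.app (op V) (s' ⊗ₜ[Λ] t')) (toSheafify_naturality X.smallEtaleTopology (β_ A.obj B.obj).hom).symm

variable (n : ℕ) [NeZero n] (F : EtModW.Mod (ULift.{u + 1} (ZMod n)) X) [EtModD.HasSheafHom F]
  [EtModD.HasSheafHom (Du F)]

/-- The biduality map. -/
def bidual : F ⟶ Du (Du F) :=
  (Mod.tensHomAdj (Du F)).homEquiv _ _ ((Mod.flipIso F).hom.app (Du F) ≫ ev F)

theorem pair_bidual {Ω : Type u} [Field Ω] [IsSepClosed Ω] (ξ : Spec (CommRingCat.of Ω) ⟶ X)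
    (s : (EtModW.stalk (ULift.{u + 1} (ZMod n)) ξ).obj F) (d : (EtModW.stalk (ULift.{u + 1} (ZMod n)) ξ).obj (Du F)) :
    pair ξ (Du F) ((EtModW.stalk _ ξ).map (bidual n F) s) d = pair ξ F d s := by
  rw [pair_tr, bidual, Equiv.symm_apply_apply, Functor.map_comp]
  exact congrArg ((EtModW.stalk _ ξ).map (ev F)) (stalk_flip F (Du F) ξ s d)

variable {n F}

theorem bijective_bidual (hF : EtModW.IsFTLocConst (ULift.{u + 1} (ZMod n)) F) {Ω : Type u} [Field Ω] [IsSepClosed Ω]
    (ξ : Spec (CommRingCat.of Ω) ⟶ X) :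
    Function.Bijective ((EtModW.stalk (ULift.{u + 1} (ZMod n)) ξ).map (bidual n F)) := by
  obtain ⟨hfF, hfD, hcard, hnd⟩ := finite_card_du n hF ξ
  obtain ⟨-, hfDD, hcard', -⟩ := finite_card_du n (isFTLocConst_du n hF) ξ
  let M := (EtModW.stalk (ULift.{u + 1} (ZMod n)) ξ).obj F
  let D := (EtModW.stalk (ULift.{u + 1} (ZMod n)) ξ).obj (Du F)
  let Λ := ULift.{u + 1} (ZMod n)
  let g := LinearEquiv.ofBijective (Mod.cstGerm ξ (ModuleCat.of Λ Λ)).hom (Mod.cstGerm_bijective ξ _)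
  let p : D → (M →ₗ[Λ] Λ) := fun d => g.symm.toLinearMap.comp (((EtModW.stalk Λ ξ).map (ev F)).hom.comp
    ((Mod.tensStalk ξ (Du F) F).hom.comp (TensorProduct.mk Λ _ _ d)))
  have hp : ∀ d s, g (p d s) = pair ξ F d s := fun d s => g.apply_symm_apply _
  have hinj : Function.Injective p := fun d d' h => sub_eq_zero.1 (hnd _ fun s => by
    rw [pair_sub, ← hp, ← hp, h, sub_self])
  haveI : Finite (M →ₗ[Λ] Λ) := Finite.of_injective _ DFunLike.coe_injective
  have hsurj : Function.Surjective p :=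
    ((Nat.bijective_iff_injective_and_card p).2 ⟨hinj, hcard.trans (card_zdual n).symm⟩).2
  have hi : Function.Injective ((EtModW.stalk Λ ξ).map (bidual n F)) := (injective_iff_map_eq_zero _).2 fun s hs => by
    by_contra hne
    obtain ⟨f, hf⟩ := exists_zdual_ne n hne
    obtain ⟨d, rfl⟩ := hsurj f
    refine hf ((map_eq_zero_iff g g.injective).1 ?_)
    rw [hp, ← pair_bidual, hs, pair, ts, TensorProduct.zero_tmul, map_zero, map_zero]
  exact (Nat.bijective_iff_injective_and_card _).2 ⟨hi, (hcard'.trans hcard).symm⟩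

theorem isIso_bidual (hF : EtModW.IsFTLocConst (ULift.{u + 1} (ZMod n)) F) : IsIso (bidual n F) :=
  Mod.isIso_of_stalks _ fun x => (ConcreteCategory.isIso_iff_bijective _).2 (bijective_bidual hF (sepPoint X x))

end Groth.Agent.Et18.PushDual
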