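import Groth.Agent.Et18.PushDual.Local

/-!
# Boundary points of an open immersion into a regular scheme of dimension one
-/

universe u

open CategoryTheory CategoryTheory.Limits AlgebraicGeometry Opposite MonoidalCategory
open Groth.Agent.Et18 Groth.Agent.SiteCoh Groth.Agent.Et18.Mod Groth.Agent.Et18.ExtSheaf

set_option backward.isDefEq.respectTransparency.types false
set_option backward.isDefEq.respectTransparency false
set_option synthInstance.maxHeartbeats 200000
set_option maxHeartbeats 1000000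
set_option linter.all false

noncomputable section

namespace Groth.Agent.Et18.PushDual

open Groth.Agent.Et18 (PointLift)

section Push

variable {Λ : Type (u + 1)} [CommRing Λ] {X U : Scheme.{u}}

/-- A map to a restricted direct image vanishing over the open is zero. -/
theorem eq_zero_of_restr_push (W : X.Etale) (j : U ⟶ X) (F : EtModW.Mod Λ U) {Y : EtModW.Mod Λ W.left}
    (φ : Y ⟶ (EtSix.restrMod Λ W.hom).obj ((EtModW.push Λ j).obj F))
    (h : ∀ {Ω : Type u} [Field Ω] [IsSepClosed Ω] (l : Spec (CommRingCat.of Ω) ⟶ W.left),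
      W.hom (l default) ∈ Set.range j → (EtModW.stalk Λ l).map φ = 0) : φ = 0 := by
  let E := EtSix.extZeroModAdj Λ W.hom
  let φh := (E.homEquiv _ _).symm φ
  have hp : (EtModW.pull Λ j).map φh = 0 := Mod.hom_eq_of_stalks _ _ fun x => by
    rw [Functor.map_zero]
    let e := Mod.stalkPullIso Λ j (sepPoint U x)
    refine (NatIso.naturality_2 e φh).symm.trans ?_
    let ξ := sepPoint U x ≫ j
    have h0 : (EtModW.stalk Λ ξ).map φh = 0 := Cofan.IsColimit.hom_ext (Mod.extZeroIsColimit W.hom ξ Y) _ _ fun l => by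
      show Mod.extZeroInj W.hom ξ Y l ≫ (EtModW.stalk Λ ξ).map φh = Mod.extZeroInj W.hom ξ Y l ≫ 0
      rw [comp_zero]
      show Mod.extZeroInj W.hom ξ Y l ≫ (EtModW.stalk Λ ξ).map ((E.homEquiv _ _).symm φ) = 0
      rw [Adjunction.homEquiv_counit, Functor.map_comp, ← Category.assoc]
      refine (congrArg (· ≫ _) (Mod.extZeroInj_naturality W.hom ξ φ l).symm).trans ?_
      rw [h l.1 ⟨x, ?_⟩, zero_comp, zero_comp]
      exact ((congrArg (fun g => g default) l.2).trans (congrArg j (sepPoint_default U x))).symm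
    rw [h0, zero_comp, comp_zero]
  have hh : φh = 0 := by
    apply ((Mod.pullPushAdj Λ j).homEquiv _ _).symm.injective
    rw [Adjunction.homEquiv_counit, Adjunction.homEquiv_counit, hp, Functor.map_zero, zero_comp]
  apply (E.homEquiv _ _).symm.injective
  rw [show (E.homEquiv _ _).symm φ = φh from rfl, hh, Adjunction.homEquiv_counit, Functor.map_zero, zero_comp]

end Push

variable (n : ℕ) [NeZero n] {X U : Scheme.{u}}

/-- Maps out of finite constant sheaves to direct images are injective near a point where they are bijective. -/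
theorem mono_small (W : X.Etale) [AlgebraicGeometry.IsNoetherian W.left] [IrreducibleSpace W.left]
    (hdimW : ∀ z : W.left, ringKrullDim (W.left.presheaf.stalk z) ≤ 1)
    (j : U ⟶ X) (F : EtModW.Mod (ULift.{u + 1} (ZMod n)) U) (w : W.left)
    (hw : ∀ z : W.left, W.hom z ∈ Set.range j ↔ z ≠ w)
    {M : ModuleCat.{u + 1} (ULift.{u + 1} (ZMod n))}
    (ψ : (Mod.cst (ULift.{u + 1} (ZMod n)) W.left).obj M ⟶
      (EtSix.restrMod (ULift.{u + 1} (ZMod n)) W.hom).obj ((EtModW.push (ULift.{u + 1} (ZMod n)) j).obj F))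
    (hψ : IsIso ((EtModW.stalk (ULift.{u + 1} (ZMod n)) (pt w)).map ψ)) : Mono ψ := by
  let Λ := ULift.{u + 1} (ZMod n)
  refine Mod.mono_of_stalks _ fun y => (injective_iff_map_eq_zero _).2 fun z hz => ?_
  obtain ⟨m, rfl⟩ := (Mod.cstGerm_bijective (sepPoint W.left y) M).2 z
  suffices hm : (EtModW.stalk Λ (pt w)).map ψ (Mod.cstGerm (pt w) M m) = 0 by
    have h1 : Mod.cstGerm (pt w) M m = 0 := (ConcreteCategory.bijective_of_isIso ((EtModW.stalk Λ (pt w)).map ψ)).1
      (hm.trans (map_zero _).symm)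
    rw [(injective_iff_map_eq_zero _).1 (Mod.cstGerm_bijective (pt w) M).1 m h1, map_zero]
  by_cases hyw : y = w
  · subst hyw
    exact (Mod.mem_imgAt_kernel ψ (pt y) m).1 ((Mod.imgAt_eq (kernel.ι ψ) (pt y) (sepPoint W.left y)
      ((pt_default y).trans (sepPoint_default W.left y).symm)).symm ▸ (Mod.mem_imgAt_kernel ψ (sepPoint W.left y) m).2 hz)
  obtain ⟨O, hyO, hO⟩ := Mod.exists_open_mem_imgAt (kernel.ι ψ) (sepPoint W.left y)
    ((Mod.mem_imgAt_kernel ψ (sepPoint W.left y) m).2 hz)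
  have hclosed : ∀ z : W.left, z ∉ O → IsClosed ({z} : Set W.left) := fun z hzO => by
    refine isClosed_singleton_of_dim_one hdimW z ?_
    have h := hdimW z
    rw [ringKrullDim_stalk_eq_coheight] at h ⊢
    have h' : Order.coheight z ≤ 1 := by exact_mod_cast h
    rcases (ENat.le_one_iff_eq_zero_or_eq_one.1 h') with h1 | h1
    · exfalso
      obtain ⟨η, hη⟩ := QuasiSober.sober (IrreducibleSpace.isIrreducible_univ W.left) isClosed_univ
      have hηz : η ⤳ z := hη.specializes (Set.mem_univ z)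
      have hzη : z ⤳ η := (Order.coheight_eq_zero.1 h1) hηz
      refine hzO ?_
      rw [Inseparable.eq (hzη.antisymm hηz)]
      exact (hη.specializes (Set.mem_univ (sepPoint W.left y default))).mem_open O.isOpen hyO
    · rw [h1]; rfl
  have hfin : ((O : Set W.left)ᶜ).Finite :=
    ConsDimOne.finite_of_closed_points O.isOpen.isClosed_compl fun z hz => hclosed z hz
  let V : W.left.Opens := ⟨((O : Set W.left)ᶜ \ {w})ᶜ, by
    refine IsClosed.isOpen_compl (self := ?_)
    rw [← Set.biUnion_of_singleton ((O : Set W.left)ᶜ \ {w})]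
    exact (hfin.subset Set.diff_subset).isClosed_biUnion fun z hz => hclosed z hz.1⟩
  have hwV : w ∈ V := fun h => h.2 rfl
  have hVO : ∀ z ∈ V, z ≠ w → z ∈ O := fun z hz hne => by_contra fun hzO => hz ⟨hzO, hne⟩
  let WV : W.left.Etale := mkEt V.ι
  haveI : IsOpenImmersion WV.hom := inferInstanceAs (IsOpenImmersion V.ι)
  let T := Mod.unitSh Λ W.left
  let φ₀ : T ⟶ _ := (Mod.cst Λ W.left).map (ModuleCat.ofHom (LinearMap.toSpanSingleton Λ M m)) ≫ ψ
  let c := (EtSix.extZeroModAdj Λ WV.hom).counit.app T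
  have hgerm : ∀ {Ω : Type u} [Field Ω] [IsSepClosed Ω] (l : Spec (CommRingCat.of Ω) ⟶ W.left) (r : Λ),
      (EtModW.stalk Λ l).map φ₀ (Mod.cstGerm l (ModuleCat.of Λ Λ) r) =
        r • (EtModW.stalk Λ l).map ψ (Mod.cstGerm l M m) := fun l r => by
    have e := congrArg (fun k => k r) (Mod.cstGerm_naturality l (ModuleCat.ofHom (LinearMap.toSpanSingleton Λ M m)))
    rw [Functor.map_comp]
    refine (congrArg ((EtModW.stalk Λ l).map ψ) e).trans ?_
    show (EtModW.stalk Λ l).map ψ (Mod.cstGerm l M (r • m)) = _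
    rw [map_smul, map_smul]
  have hzero : c ≫ φ₀ = 0 := eq_zero_of_restr_push W j F _ fun {Ω} _ _ l hl => by
    by_cases hlV : l default ∈ V
    · have h0 : (EtModW.stalk Λ l).map φ₀ = 0 := ModuleCat.hom_ext (LinearMap.ext fun t => by
        obtain ⟨r, rfl⟩ := (Mod.cstGerm_bijective l (ModuleCat.of Λ Λ)).2 t
        refine (hgerm l r).trans ?_
        rw [show (EtModW.stalk Λ l).map ψ (Mod.cstGerm l M m) = 0 from (Mod.mem_imgAt_kernel ψ l m).1
          ((Mod.imgAt_eq (kernel.ι ψ) l (sepPoint W.left (l default)) (sepPoint_default W.left _).symm).symm ▸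
            hO _ (hVO _ hlV ((hw _).1 hl))), smul_zero]
        rfl)
      rw [Functor.map_comp, h0, comp_zero]
    · haveI : IsEmpty (PointLift WV.hom l) := ⟨fun v => hlV (by
        have e : V.ι (v.1 default) = l default := congrArg (fun g => g default) v.2
        rw [← e]; exact (v.1 default).2)⟩
      exact Cofan.IsColimit.hom_ext (Mod.extZeroIsColimit WV.hom l _) _ _ fun v => isEmptyElim v
  have hcb : Function.Surjective ((EtModW.stalk Λ (pt w)).map c) :=
    ((ConcreteCategory.isIso_iff_bijective ((EtModW.stalk Λ (pt w)).map c)).1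
      (isIso_stalk_counit WV (pt w) ⟨⟨w, hwV⟩, (pt_default w).symm⟩ T)).2
  have h0 : (EtModW.stalk Λ (pt w)).map φ₀ = 0 := ModuleCat.hom_ext (LinearMap.ext fun t => by
    obtain ⟨t, rfl⟩ := hcb t
    exact congrArg (fun k => k t) (((EtModW.stalk Λ (pt w)).map_comp c φ₀).symm.trans
      ((congrArg (EtModW.stalk Λ (pt w)).map hzero).trans (Functor.map_zero _ _ _))))
  have h := (hgerm (pt w) (1 : Λ)).symm.trans (congrArg (fun k => k (Mod.cstGerm (pt w) (ModuleCat.of Λ Λ) (1 : Λ))) h0)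
  rw [one_smul] at h
  exact h

variable [AlgebraicGeometry.IsNoetherian X] (hreg : ∀ x : X, IsRegularLocalRing (X.presheaf.stalk x))
    (hdim : ∀ x : X, ringKrullDim (X.presheaf.stalk x) ≤ 1) (hn : IsUnit (n : Γ(X, ⊤)))
    (j : U ⟶ X) [IsOpenImmersion j]
    (hY1 : ∀ y : X, y ∉ Set.range j.base → ringKrullDim (X.presheaf.stalk y) = 1)
include hreg hdim hn hY1

/-- The stalks at a boundary point of the first two sheaf Ext out of a direct image. -/
theorem boundary {F : EtModW.Mod (ULift.{u + 1} (ZMod n)) U} (hF : EtModW.IsFTLocConst (ULift.{u + 1} (ZMod n)) F)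
    [EtModD.HasSheafHom F] [EtModD.HasSheafHom ((EtModW.push (ULift.{u + 1} (ZMod n)) j).obj F)]
    (x : X) (hx : x ∉ Set.range j.base) :
    IsZero ((EtModW.stalk (ULift.{u + 1} (ZMod n)) (pt x)).obj
      ((EtModD.extSheaf ((EtModW.push (ULift.{u + 1} (ZMod n)) j).obj F) 2).obj (Mod.unitSh (ULift.{u + 1} (ZMod n)) X))) ∧
    Finite ((EtModW.stalk (ULift.{u + 1} (ZMod n)) (pt x)).obj
      ((EtModD.extSheaf ((EtModW.push (ULift.{u + 1} (ZMod n)) j).obj F) 1).obj (Mod.unitSh (ULift.{u + 1} (ZMod n)) X))) ∧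
    Nat.card ((EtModW.stalk (ULift.{u + 1} (ZMod n)) (pt x)).obj
      ((EtModD.extSheaf ((EtModW.push (ULift.{u + 1} (ZMod n)) j).obj F) 1).obj (Mod.unitSh (ULift.{u + 1} (ZMod n)) X))) *
      Nat.card ((EtModW.stalk (ULift.{u + 1} (ZMod n)) (pt x)).obj ((EtModW.push (ULift.{u + 1} (ZMod n)) j).obj F)) =
      Nat.card ((EtModW.stalk (ULift.{u + 1} (ZMod n)) (pt x)).obj ((EtModW.push (ULift.{u + 1} (ZMod n)) j).obj (Du F))) := by
  let Λ := ULift.{u + 1} (ZMod n)
  let G := (EtModW.push Λ j).obj F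
  obtain ⟨hfM, -, -⟩ := card_stalk_Rpush_one n j x hreg hdim hn hY1 hx hF
  haveI : Finite ((EtModW.stalk Λ (pt x)).obj G) := hfM
  haveI : Module.Finite Λ ((EtModW.stalk Λ (pt x)).obj G) := Module.Finite.of_finite
  haveI : Module.FinitePresentation Λ ((EtModW.stalk Λ (pt x)).obj G) := Module.finitePresentation_of_finite _ _
  obtain ⟨U₀, v, hv, ψ, hψ⟩ := Mod.exists_nhd_isIso_stalk (G := G) (pt x)
  let f₀ : U₀.left ⟶ X := U₀.hom
  haveI : Etale f₀ := U₀.prop
  haveI : Etale U₀.hom := U₀.prop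
  let v₀ : U₀.left := v default
  have hv₀ : f₀ v₀ = x := (congrArg (fun g => g default) hv).trans (pt_default x)
  haveI : IsLocallyNoetherian U₀.left := LocallyOfFiniteType.isLocallyNoetherian f₀
  haveI := (isRegularLocalRing_stalk_iff_of_etale f₀ v₀).2 (hreg _)
  haveI := CAlgH3.isDomain_of_isRegularLocalRing (U₀.left.presheaf.stalk v₀)
  haveI := CAlgH3.isIntegrallyClosed_of_regular (U₀.left.presheaf.stalk v₀)
  obtain ⟨O₁, hvO₁, hirr⟩ := EGA43.Chevalley.exists_irreducible_nhd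
    (FEtFF.isGeomUnibranch_of_normal (U₀.left.presheaf.stalk v₀)).1
  obtain ⟨_, ⟨A₀', hA₀, rfl⟩, hvA, -⟩ := U₀.left.isBasis_affineOpens.exists_subset_of_mem_open
    (Set.mem_univ v₀) isOpen_univ
  let A₀ : U₀.left.Opens := A₀'
  haveI : IsAffine A₀.toScheme := hA₀
  haveI : IsLocallyNoetherian A₀.toScheme := LocallyOfFiniteType.isLocallyNoetherian (A₀.ι ≫ f₀)
  haveI : AlgebraicGeometry.IsNoetherian A₀.toScheme := ⟨⟩
  let f₁ : A₀.toScheme ⟶ X := A₀.ι ≫ f₀
  haveI : Etale f₁ := inferInstance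
  have hdimA : ∀ z : A₀.toScheme, ringKrullDim (A₀.toScheme.presheaf.stalk z) ≤ 1 := fun z =>
    (ringKrullDim_stalk_eq_of_etale f₁ z).trans_le (hdim _)
  let v₁ : A₀.toScheme := ⟨v₀, hvA⟩
  let B : Set A₀.toScheme := (f₁ ⁻¹' Set.range j)ᶜ
  have hBc : IsClosed B := (j.isOpenEmbedding.isOpen_range.preimage f₁.continuous).isClosed_compl
  have hBcl : ∀ z ∈ B, IsClosed ({z} : Set A₀.toScheme) := fun z hz =>
    isClosed_singleton_of_dim_one hdimA z ((ringKrullDim_stalk_eq_of_etale f₁ z).trans (hY1 _ hz))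
  have hBfin : B.Finite := ConsDimOne.finite_of_closed_points hBc hBcl
  let O : A₀.toScheme.Opens := ⟨A₀.ι ⁻¹' O₁ ∩ (B \ {v₁})ᶜ, by
    refine (O₁.isOpen.preimage A₀.ι.continuous).inter (IsClosed.isOpen_compl (self := ?_))
    rw [← Set.biUnion_of_singleton (B \ {v₁})]
    exact (hBfin.subset Set.diff_subset).isClosed_biUnion fun z hz => hBcl z hz.1⟩
  have hvO : v₁ ∈ O := ⟨hvO₁, fun h => h.2 rfl⟩
  let g : O.toScheme ⟶ U₀.left := O.ι ≫ A₀.ι
  haveI : IsOpenImmersion g := inferInstance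
  let h : O.toScheme ⟶ X := g ≫ f₀
  haveI : Etale h := inferInstance
  let W : X.Etale := mkEt h
  haveI : IsLocallyNoetherian O.toScheme := LocallyOfFiniteType.isLocallyNoetherian O.ι
  haveI : TopologicalSpace.NoetherianSpace ↥O.toScheme := O.ι.isEmbedding.isInducing.noetherianSpace
  haveI : AlgebraicGeometry.IsNoetherian O.toScheme := ⟨⟩
  haveI : AlgebraicGeometry.IsNoetherian W.left := ‹AlgebraicGeometry.IsNoetherian O.toScheme›
  let w : O.toScheme := ⟨v₁, hvO⟩
  haveI : IrreducibleSpace O.toScheme := by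
    have hr : Set.range g ⊆ (O₁ : Set U₀.left) := by
      rintro _ ⟨z, rfl⟩; exact z.2.1
    have hp : IsPreirreducible (O₁ : Set U₀.left) :=
      (isPreirreducible_iff_preirreducibleSpace).2 (inferInstanceAs (PreirreducibleSpace O₁))
    haveI : Nonempty O.toScheme := ⟨w⟩
    haveI : PreirreducibleSpace O.toScheme := ⟨by
      have h2 : IsPreirreducible (Set.range g) := hp.open_subset g.isOpenEmbedding.isOpen_range hr
      have h3 := h2.preimage g.isOpenEmbedding
      rwa [Set.preimage_range] at h3⟩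
    exact ⟨inferInstance⟩
  haveI : IrreducibleSpace W.left := ‹IrreducibleSpace O.toScheme›
  have hregW : ∀ z : W.left, IsRegularLocalRing (W.left.presheaf.stalk z) := fun z =>
    (isRegularLocalRing_stalk_iff_of_etale h z).2 (hreg _)
  have hdimW : ∀ z : W.left, ringKrullDim (W.left.presheaf.stalk z) ≤ 1 := fun z =>
    (ringKrullDim_stalk_eq_of_etale h z).trans_le (hdim _)
  have hnW : IsUnit (n : Γ(W.left, ⊤)) := by simpa using hn.map h.appTop.hom
  have hw1 : ringKrullDim (W.left.presheaf.stalk w) = 1 :=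
    (ringKrullDim_stalk_eq_of_etale h w).trans ((congrArg (fun t => ringKrullDim (X.presheaf.stalk t)) hv₀).trans (hY1 x hx))
  have hw : ∀ z : W.left, W.hom z ∈ Set.range j ↔ z ≠ w := fun z => by
    refine ⟨fun hz hzw => hx ?_, fun hne => by_contra fun hz => ?_⟩
    · subst hzw
      rwa [show W.hom w = x from hv₀] at hz
    · have hz1 : z.1 ∈ B := hz
      exact z.2.2 ⟨hz1, fun he => hne (Subtype.ext he)⟩
  let M := (EtModW.stalk Λ (pt x)).obj G
  let G' : EtModW.Mod Λ W.left := (EtSix.restrMod Λ W.hom).obj G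
  let ψ' : (Mod.cst Λ W.left).obj M ⟶ G' :=
    (modPullConstIso _ g).inv.app M ≫ (EtModW.pull _ g).map ψ ≫ (Et18.modPullComp _ g U₀.hom).inv.app G ≫
      (Mod.pullRestrIso _ h).hom.app G
  have hgw : v default = (pt w ≫ g) default := (congrArg g (pt_default w)).symm
  haveI hψ' : IsIso ((EtModW.stalk Λ (pt w)).map ψ') := by
    haveI : IsIso ((EtModW.stalk Λ (pt w)).map ((EtModW.pull Λ g).map ψ)) := by
      refine (NatIso.isIso_map_iff (Mod.stalkPullIso _ g (pt w)) ψ).mpr ?_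
      exact (Mod.isIso_stalk_map_iff ψ v (pt w ≫ g) hgw).mp hψ
    simp only [ψ', Functor.map_comp]
    infer_instance
  have hmono := mono_small n W hdimW j F w hw ψ' hψ'
  let U' : W.left.Opens := ⟨({w} : Set W.left)ᶜ, (isClosed_singleton_of_dim_one hdimW w hw1).isOpen_compl⟩
  let WU : W.left.Etale := mkEt U'.ι
  haveI : IsOpenImmersion WU.hom := inferInstanceAs (IsOpenImmersion U'.ι)
  have hsub : Set.range (U'.ι ≫ h) ⊆ Set.range j := by
    rintro _ ⟨z, rfl⟩
    exact (hw (U'.ι z)).2 z.2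
  let l := IsOpenImmersion.lift j (U'.ι ≫ h) hsub
  have hl : l ≫ j = U'.ι ≫ h := IsOpenImmersion.lift_fac j _ hsub
  have hG : EtModW.IsFTLocConst Λ ((EtSix.restrMod Λ WU.hom).obj G') := by
    haveI := Mod.isIso_counit_app j F
    have hl' : EtModW.IsFTLocConst Λ ((EtModW.pull Λ l).obj ((EtModW.pull Λ j).obj G)) := by
      refine Mod.isFTLocConst_of_iso ?_ ((EtModW.pull Λ l).mapIso (@asIso _ _ _ _ ((Mod.pullPushAdj Λ j).counit.app F) this).symm)
      exact Mod.isFTLocConst_iff.2 ((Mod.isFTLocConst_iff.1 hF).pull l)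
    exact Mod.isFTLocConst_of_iso hl' ((Et18.modPullComp Λ l j).symm.app G ≪≫ (Mod.pullCongr Λ hl).app G ≪≫
      (Et18.modPullComp Λ U'.ι h).app G ≪≫ (EtModW.pull Λ U'.ι).mapIso ((Mod.pullRestrIso Λ h).app G) ≪≫
        (Mod.pullRestrIso Λ U'.ι).app G')
  haveI : EtModD.HasSheafHom G' := Mod.hasSheafHom _
  haveI : EtModD.HasSheafHom ((EtSix.restrMod Λ W.hom).obj G) := ‹EtModD.HasSheafHom G'›
  obtain ⟨h2, h1f, hcard⟩ := boundary_small n hregW hdimW hnW WU w hw1 Subtype.range_coe (G := G') ψ' hmono hψ' hG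
  obtain ⟨σ⟩ := Mod.nonempty_stalkFun_iso (Λ := Λ) (pt w ≫ W.hom) (pt x)
    ((congrArg W.hom (pt_default w)).trans (hv₀.trans (pt_default x).symm))
  let T := Mod.unitSh Λ X
  obtain ⟨a₁⟩ := nonempty_restr_extSheaf W G T 1
  let E₁ : (EtModW.stalk Λ (pt x)).obj ((EtModD.extSheaf G 1).obj T) ≅
      (EtModW.stalk Λ (pt w)).obj ((EtModD.extSheaf G' 1).obj (Mod.unitSh Λ W.left)) :=
    σ.symm.app _ ≪≫ ((Mod.stalkRestrIso _ W.hom (pt w)).app _).symm ≪≫
      (EtModW.stalk Λ (pt w)).mapIso (a₁ ≪≫ (EtModD.extSheaf G' 1).mapIso (restrUnitIso n W))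
  obtain ⟨e⟩ := nonempty_hom_push n hreg hdim j hY1 F
  let E₀ : (EtModW.stalk Λ (pt x)).obj ((EtModW.push Λ j).obj (Du F)) ≅ (EtModW.stalk Λ (pt w)).obj (@Du Λ _ W.left G' ‹EtModD.HasSheafHom G'›) :=
    (EtModW.stalk Λ (pt x)).mapIso e.symm ≪≫ σ.symm.app _ ≪≫ ((Mod.stalkRestrIso _ W.hom (pt w)).app _).symm ≪≫
      (EtModW.stalk Λ (pt w)).mapIso ((restrHomIso W G).app T ≪≫ (EtModD.sheafHom ((EtSix.restrMod Λ W.hom).obj G)).mapIso (restrUnitIso n W))
  refine ⟨?_, @Finite.of_equiv _ _ h1f E₁.toLinearEquiv.symm.toEquiv, ?_⟩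
  · exact (σ.app _).isZero_iff.1 ((isZero_stalk_ext_iff n W G (pt w) 2).2 h2)
  rw [Nat.card_congr E₁.toLinearEquiv.toEquiv, Nat.card_congr E₀.toLinearEquiv.toEquiv]
  exact hcard

end Groth.Agent.Et18.PushDual
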