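import Groth.Agent.Et18.ExtSheaf.Cyclic
import Groth.Agent.EtStalkLib.AcyclicComp

/-!
# Derived composites, the long exact sequence of sheaf Ext, counting
-/

universe u

open CategoryTheory CategoryTheory.Limits AlgebraicGeometry Opposite MonoidalCategory
open Groth.Agent.Et18 Groth.Agent.Et18.Mod Groth.Agent.Et18.ExtSheaf

set_option backward.isDefEq.respectTransparency.types false
set_option backward.isDefEq.respectTransparency false
set_option synthInstance.maxHeartbeats 200000
set_option maxHeartbeats 1000000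
set_option linter.all false

noncomputable section

namespace Groth.Agent.Et18.PushDual

section Comp

variable {A B C : Type*} [Category A] [Abelian A] [HasInjectiveResolutions A]
  [Category B] [Abelian B] [HasInjectiveResolutions B] [Category C] [Abelian C]
  (G : A ⥤ B) [G.Additive] [PreservesFiniteLimits G] (P : B ⥤ C) [P.Additive] [PreservesFiniteLimits P]

/-- `R^q(P ∘ G) = (R^q P) ∘ G` on `G`-acyclic objects. -/
theorem nonempty_rightDerived_comp (hI : ∀ (I : A) [Injective I] (p : ℕ), IsZero ((P.rightDerived (p + 1)).obj (G.obj I)))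
    (X : A) (hX : ∀ p : ℕ, IsZero ((G.rightDerived (p + 1)).obj X)) (q : ℕ) :
    Nonempty (((G ⋙ P).rightDerived q).obj X ≅ (P.rightDerived q).obj (G.obj X)) := by
  let R := injectiveResolution X
  let K : CochainComplex B ℕ := (G.mapHomologicalComplex _).obj R.cocomplex
  let a : G.obj X ⟶ K.X 0 := G.map (R.ι.f 0)
  have w : a ≫ K.d 0 1 = 0 :=
    ((G.map_comp _ _).symm.trans (congrArg G.map R.ι_f_zero_comp_complex_d)).trans (G.map_zero _ _)
  haveI : Mono a := inferInstance
  have h0 : (ShortComplex.mk a (K.d 0 1) w).Exact :=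
    ShortComplex.exact_of_f_is_kernel _ (KernelFork.mapIsLimit _ R.isLimitKernelFork G)
  have hs : ∀ n, (ShortComplex.mk (K.d n (n + 1)) (K.d (n + 1) (n + 2)) (K.d_comp_d _ _ _)).Exact := fun n => by
    have h : K.ExactAt (n + 1) := by
      rw [HomologicalComplex.exactAt_iff_isZero_homology]
      exact (hX n).of_iso (R.isoRightDerivedObj G (n + 1)).symm
    exact (HomologicalComplex.exactAt_iff' _ n (n + 1) (n + 2) (by simp) (by simp)).1 h
  let I := injectiveResolution (G.obj X)
  obtain ⟨φ, hφ⟩ := EtStalkLib.exists_desc h0 hs (𝟙 (G.obj X)) I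
  haveI : QuasiIso φ := EtStalkLib.quasiIso_desc h0 hs I φ (hφ.trans (Category.id_comp _))
  haveI : QuasiIso ((P.mapHomologicalComplex _).map φ) := by
    refine SpecSeq.quasiIso_map_of_acyclic P φ (fun i q hq => ?_) (fun i q hq => ?_)
    · obtain ⟨k, rfl⟩ : ∃ k, q = k + 1 := ⟨q - 1, by omega⟩
      haveI := R.injective i
      exact hI _ k
    · obtain ⟨k, rfl⟩ : ∃ k, q = k + 1 := ⟨q - 1, by omega⟩
      exact Functor.isZero_rightDerived_obj_injective_succ P k _
  exact ⟨R.isoRightDerivedObj (G ⋙ P) q ≪≫ asIso (HomologicalComplex.homologyMap ((P.mapHomologicalComplex _).map φ) q) ≪≫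
    (I.isoRightDerivedObj P q).symm⟩

end Comp

/-- Orders in an exact sequence of five finite groups. -/
theorem card_five {A B C D E : Type*} [AddCommGroup A] [AddCommGroup B] [AddCommGroup C] [AddCommGroup D]
    [AddCommGroup E] [Finite B] [Finite D] (f : A →+ B) (g : B →+ C) (d : C →+ D) (h : D →+ E)
    (hf : Function.Injective f) (hfg : Function.Exact f g) (hgd : Function.Exact g d) (hdh : Function.Exact d h)
    (hh : Function.Surjective h) :
    Nat.card A * Nat.card C * Nat.card E = Nat.card B * Nat.card D := by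
  have h1 : Nat.card A = Nat.card g.ker := by
    rw [hfg.addMonoidHom_ker_eq]
    exact Nat.card_congr (AddMonoidHom.ofInjective hf).toEquiv
  have h2 : Nat.card g.range = Nat.card d.ker := by rw [hgd.addMonoidHom_ker_eq]
  have h3 : Nat.card d.range = Nat.card h.ker := by rw [hdh.addMonoidHom_ker_eq]
  have h4 : Nat.card E = Nat.card h.range := by
    rw [AddMonoidHom.range_eq_top.2 hh]
    exact (Nat.card_congr AddSubgroup.topEquiv.toEquiv).symm
  have eB := AddSubgroup.card_eq_card_quotient_mul_card_addSubgroup g.ker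
  rw [Nat.card_congr (QuotientAddGroup.quotientKerEquivRange g).toEquiv] at eB
  have eC := AddSubgroup.card_eq_card_quotient_mul_card_addSubgroup d.ker
  rw [Nat.card_congr (QuotientAddGroup.quotientKerEquivRange d).toEquiv] at eC
  have eD := AddSubgroup.card_eq_card_quotient_mul_card_addSubgroup h.ker
  rw [Nat.card_congr (QuotientAddGroup.quotientKerEquivRange h).toEquiv] at eD
  rw [h1, eC, h3, h4, eB, eD, h2]
  ring

/-- Finiteness of the last term of an exact sequence. -/
theorem finite_middle {A B C : Type*} [AddCommGroup A] [AddCommGroup B] [AddCommGroup C] [Finite A] [Finite C]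
    (f : A →+ B) (g : B →+ C) (hfg : Function.Exact f g) : Finite B := by
  haveI : Finite g.ker := by
    rw [hfg.addMonoidHom_ker_eq]
    exact Finite.of_surjective f.rangeRestrict f.rangeRestrict_surjective
  haveI : Finite g.range := inferInstance
  haveI : Finite (B ⧸ g.ker) := Finite.of_equiv _ (QuotientAddGroup.quotientKerEquivRange g).symm.toEquiv
  exact Finite.of_equiv ((B ⧸ g.ker) × g.ker) (AddSubgroup.addGroupEquivQuotientProdAddSubgroup (s := g.ker)).symm

variable {Λ : Type (u + 1)} [CommRing Λ] [IsNoetherianRing Λ] {X : Scheme.{u}} {S : ShortComplex (EtModW.Mod Λ X)}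
  [EtModD.HasSheafHom S.X₁] [EtModD.HasSheafHom S.X₂] [EtModD.HasSheafHom S.X₃]

/-- The beginning of the long exact sequence of sheaf Ext. -/
theorem exists_les_zero (hS : S.ShortExact) (G : EtModW.Mod Λ X) :
    ∃ (f : (EtModD.sheafHom S.X₃).obj G ⟶ (EtModD.sheafHom S.X₂).obj G)
      (g : (EtModD.sheafHom S.X₂).obj G ⟶ (EtModD.sheafHom S.X₁).obj G)
      (d : (EtModD.sheafHom S.X₁).obj G ⟶ (EtModD.extSheaf S.X₃ 1).obj G)
      (h : (EtModD.extSheaf S.X₃ 1).obj G ⟶ (EtModD.extSheaf S.X₂ 1).obj G)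
      (k : (EtModD.extSheaf S.X₂ 1).obj G ⟶ (EtModD.extSheaf S.X₁ 1).obj G)
      (w₁ : f ≫ g = 0) (w₂ : g ≫ d = 0) (w₃ : d ≫ h = 0) (w₄ : h ≫ k = 0),
      Mono f ∧ (ShortComplex.mk f g w₁).Exact ∧ (ShortComplex.mk g d w₂).Exact ∧
        (ShortComplex.mk d h w₃).Exact ∧ (ShortComplex.mk h k w₄).Exact := by
  let R := injectiveResolution G
  let T := ShortComplex.mk
    ((NatTrans.mapHomologicalComplex (pre S.g) (ComplexShape.up ℕ)).app R.cocomplex)
    ((NatTrans.mapHomologicalComplex (pre S.f) (ComplexShape.up ℕ)).app R.cocomplex)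
    (HomologicalComplex.hom_ext _ _ fun i => pre_comp_pre (S := S) (R.cocomplex.X i))
  have hT : T.ShortExact := HomologicalComplex.shortExact_of_degreewise_shortExact T fun i => by
    haveI := R.injective i
    exact shortExact_pre hS (R.cocomplex.X i)
  haveI : PreservesFiniteLimits (EtModD.sheafHom S.X₁) :=
    haveI : PreservesLimitsOfSize.{0, 0} (EtModD.sheafHom S.X₁) := (EtModD.sheafHomAdj S.X₁).rightAdjoint_preservesLimits
    PreservesLimitsOfSize.preservesFiniteLimits _
  haveI : PreservesFiniteLimits (EtModD.sheafHom S.X₂) :=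
    haveI : PreservesLimitsOfSize.{0, 0} (EtModD.sheafHom S.X₂) := (EtModD.sheafHomAdj S.X₂).rightAdjoint_preservesLimits
    PreservesLimitsOfSize.preservesFiniteLimits _
  haveI : PreservesFiniteLimits (EtModD.sheafHom S.X₃) :=
    haveI : PreservesLimitsOfSize.{0, 0} (EtModD.sheafHom S.X₃) := (EtModD.sheafHomAdj S.X₃).rightAdjoint_preservesLimits
    PreservesLimitsOfSize.preservesFiniteLimits _
  let a₁ := ((EtModD.sheafHom S.X₁).rightDerivedZeroIsoSelf.app G).symm ≪≫ R.isoRightDerivedObj (EtModD.sheafHom S.X₁) 0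
  let a₂ := ((EtModD.sheafHom S.X₂).rightDerivedZeroIsoSelf.app G).symm ≪≫ R.isoRightDerivedObj (EtModD.sheafHom S.X₂) 0
  let a₃ := ((EtModD.sheafHom S.X₃).rightDerivedZeroIsoSelf.app G).symm ≪≫ R.isoRightDerivedObj (EtModD.sheafHom S.X₃) 0
  let b₁ := R.isoRightDerivedObj (EtModD.sheafHom S.X₁) 1
  let b₂ := R.isoRightDerivedObj (EtModD.sheafHom S.X₂) 1
  let b₃ := R.isoRightDerivedObj (EtModD.sheafHom S.X₃) 1
  haveI : Mono (HomologicalComplex.homologyMap T.f 0) := by
    haveI := hT.mono_f
    haveI : Mono (T.f.f 0) := inferInstance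
    haveI : Mono (HomologicalComplex.cyclesMap T.f 0) := by
      haveI : Mono (HomologicalComplex.cyclesMap T.f 0 ≫ T.X₂.iCycles 0) := by
        rw [HomologicalComplex.cyclesMap_i]; infer_instance
      exact mono_of_mono _ (T.X₂.iCycles 0)
    haveI : IsIso (T.X₁.homologyπ 0) := T.X₁.isIso_homologyπ _ 0 rfl (T.X₁.shape _ _ (by simp))
    haveI : IsIso (T.X₂.homologyπ 0) := T.X₂.isIso_homologyπ _ 0 rfl (T.X₂.shape _ _ (by simp))
    haveI : Mono (T.X₁.homologyπ 0 ≫ HomologicalComplex.homologyMap T.f 0) := by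
      rw [HomologicalComplex.homologyπ_naturality]; infer_instance
    rw [show HomologicalComplex.homologyMap T.f 0 = inv (T.X₁.homologyπ 0) ≫
      (T.X₁.homologyπ 0 ≫ HomologicalComplex.homologyMap T.f 0) from (IsIso.inv_hom_id_assoc _ _).symm]
    infer_instance
  refine ⟨a₃.hom ≫ HomologicalComplex.homologyMap T.f 0 ≫ a₂.inv,
    a₂.hom ≫ HomologicalComplex.homologyMap T.g 0 ≫ a₁.inv,
    a₁.hom ≫ hT.δ 0 1 (by simp) ≫ b₃.inv,
    b₃.hom ≫ HomologicalComplex.homologyMap T.f 1 ≫ b₂.inv,
    b₂.hom ≫ HomologicalComplex.homologyMap T.g 1 ≫ b₁.inv, ?_, ?_, ?_, ?_, inferInstance, ?_, ?_, ?_, ?_⟩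
  · simp only [Category.assoc, Iso.inv_hom_id_assoc]
    rw [← HomologicalComplex.homologyMap_comp_assoc, T.zero, HomologicalComplex.homologyMap_zero, zero_comp, comp_zero]
  · simp only [Category.assoc, Iso.inv_hom_id_assoc]
    rw [ShortComplex.ShortExact.comp_δ_assoc hT, zero_comp, comp_zero]
  · simp only [Category.assoc, Iso.inv_hom_id_assoc]
    rw [ShortComplex.ShortExact.δ_comp_assoc hT, zero_comp, comp_zero]
  · simp only [Category.assoc, Iso.inv_hom_id_assoc]
    rw [← HomologicalComplex.homologyMap_comp_assoc, T.zero, HomologicalComplex.homologyMap_zero, zero_comp, comp_zero]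
  · exact ShortComplex.exact_of_iso (ShortComplex.isoMk a₃.symm a₂.symm a₁.symm (by simp) (by simp)) (hT.homology_exact₂ 0)
  · exact ShortComplex.exact_of_iso (ShortComplex.isoMk a₂.symm a₁.symm b₃.symm (by simp) (by simp)) (hT.homology_exact₃ 0 1 (by simp))
  · exact ShortComplex.exact_of_iso (ShortComplex.isoMk a₁.symm b₃.symm b₂.symm (by simp) (by simp)) (hT.homology_exact₁ 0 1 (by simp))
  · exact ShortComplex.exact_of_iso (ShortComplex.isoMk b₃.symm b₂.symm b₁.symm (by simp) (by simp)) (hT.homology_exact₂ 1)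

end Groth.Agent.Et18.PushDual
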