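import Groth.Agent.Et18.PushDual.ZDual
import Groth.Agent.Et18.ExtSheaf.Vanish

/-!
# Duals of locally constant sheaves of `Z/n`-modules on the small étale site
-/

universe u

open CategoryTheory CategoryTheory.Limits AlgebraicGeometry Opposite MonoidalCategory
open Groth.Agent.Et18 Groth.Agent.Et18.Mod Groth.Agent.Et18.PicCx Groth.Agent.Et18.ExtSheaf

set_option backward.isDefEq.respectTransparency.types false
set_option backward.isDefEq.respectTransparency false
set_option synthInstance.maxHeartbeats 200000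
set_option maxHeartbeats 1000000
set_option linter.all false

noncomputable section

namespace Groth.Agent.Et18.PushDual

open Groth.Agent.Et18 (PointLift fiberIncl)

variable {Λ : Type (u + 1)} [CommRing Λ] {X : Scheme.{u}}

section Pair

variable {Ω : Type u} [Field Ω] [IsSepClosed Ω] (ξ : Spec (CommRingCat.of Ω) ⟶ X)

/-- Tensors in a stalk. -/
abbrev ts {A B : EtModW.Mod Λ X} (a : (EtModW.stalk Λ ξ).obj A) (b : (EtModW.stalk Λ ξ).obj B) :
    (EtModW.stalk Λ ξ).obj (Mod.tens A B) := Mod.tensStalk ξ A B (a ⊗ₜ[Λ] b)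

theorem map_ts₁ {A A' : EtModW.Mod Λ X} (g : A ⟶ A') (B : EtModW.Mod Λ X) (a : (EtModW.stalk Λ ξ).obj A)
    (b : (EtModW.stalk Λ ξ).obj B) :
    (EtModW.stalk Λ ξ).map (((eT Λ X).flip.obj B).map g) (ts ξ a b) = ts ξ ((EtModW.stalk Λ ξ).map g a) b :=
  (congrArg (fun k => k (a ⊗ₜ[Λ] b)) (Mod.tensStalk_nat₁ ξ g B)).symm

theorem map_ts₂ (A : EtModW.Mod Λ X) {B B' : EtModW.Mod Λ X} (g : B ⟶ B') (a : (EtModW.stalk Λ ξ).obj A)
    (b : (EtModW.stalk Λ ξ).obj B) :
    (EtModW.stalk Λ ξ).map (((eT Λ X).obj A).map g) (ts ξ a b) = ts ξ a ((EtModW.stalk Λ ξ).map g b) :=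
  (congrArg (fun k => k (a ⊗ₜ[Λ] b)) (Mod.tensStalk_nat₂ ξ A g)).symm

theorem tens_ext {A B : EtModW.Mod Λ X} {M : ModuleCat.{u + 1} Λ} {f g : (EtModW.stalk Λ ξ).obj (Mod.tens A B) ⟶ M}
    (h : ∀ a b, f (ts ξ a b) = g (ts ξ a b)) : f = g := by
  rw [← cancel_epi (Mod.tensStalk ξ A B)]
  exact ModuleCat.hom_ext (TensorProduct.ext' h)

theorem stalk_unitHom (M : EtModW.Mod Λ X) (d : (EtModW.stalk Λ ξ).obj M) :
    (EtModW.stalk Λ ξ).map (Mod.unitHom M) d =
      ts ξ d (Mod.cstGerm ξ (ModuleCat.of Λ Λ) (1 : Λ) : (EtModW.stalk Λ ξ).obj (Mod.unitSh Λ X)) := by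
  obtain ⟨W, w, s, rfl⟩ := (Scheme.pointSmallEtale ξ).toPresheafFiber_jointly_surjective (P := M.obj) d
  refine ((Scheme.pointSmallEtale ξ).toPresheafFiber_naturality_apply (Mod.unitHom M).hom W w s).trans ?_
  refine (germ_tsec ξ (G := Mod.unitSh Λ X) s (Mod.cstSec (ModuleCat.of Λ Λ) W (1 : Λ)) w).trans ?_
  exact congrArg (fun t => Mod.tensStalk ξ M (Mod.unitSh Λ X) (_ ⊗ₜ[Λ] t))
    (congrArg (fun k => k (1 : Λ)) (Mod.cstSec_germ ξ (ModuleCat.of Λ Λ) W w))

variable (F : EtModW.Mod Λ X) [EtModD.HasSheafHom F]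

/-- The dual. -/
abbrev Du : EtModW.Mod Λ X := (EtModD.sheafHom F).obj (Mod.unitSh Λ X)

/-- The evaluation. -/
abbrev ev : Mod.tens (Du F) F ⟶ Mod.unitSh Λ X := (Mod.tensHomAdj F).counit.app (Mod.unitSh Λ X)

/-- The pairing of the stalks. -/
def pair (d : (EtModW.stalk Λ ξ).obj (Du F)) (s : (EtModW.stalk Λ ξ).obj F) :
    (EtModW.stalk Λ ξ).obj (Mod.unitSh Λ X) :=
  (EtModW.stalk Λ ξ).map (ev F) (ts ξ d s)

/-- The pairing separates the dual. -/
def Nondeg : Prop := ∀ d, (∀ s, pair ξ F d s = 0) → d = 0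

theorem pair_sub (d d' : (EtModW.stalk Λ ξ).obj (Du F)) (s : (EtModW.stalk Λ ξ).obj F) :
    pair ξ F (d - d') s = pair ξ F d s - pair ξ F d' s := by
  simp only [pair, ts, TensorProduct.sub_tmul, map_sub]

theorem pair_tr {Y : EtModW.Mod Λ X} (y : Y ⟶ Du F) (a : (EtModW.stalk Λ ξ).obj Y) (s : (EtModW.stalk Λ ξ).obj F) :
    pair ξ F ((EtModW.stalk Λ ξ).map y a) s =
      (EtModW.stalk Λ ξ).map (((Mod.tensHomAdj F).homEquiv Y _).symm y) (ts ξ a s) := by
  rw [Adjunction.homEquiv_counit, Functor.map_comp]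
  exact (congrArg ((EtModW.stalk Λ ξ).map (ev F)) (map_ts₁ ξ y F a s)).symm

variable {F} {F' : EtModW.Mod Λ X} [EtModD.HasSheafHom F']

theorem pair_pre (φ : F' ⟶ F) (d : (EtModW.stalk Λ ξ).obj (Du F)) (s : (EtModW.stalk Λ ξ).obj F') :
    pair ξ F' ((EtModW.stalk Λ ξ).map ((pre φ).app (Mod.unitSh Λ X)) d) s =
      pair ξ F d ((EtModW.stalk Λ ξ).map φ s) := by
  rw [pair_tr]
  have h := tr_pre φ (𝟙 (Du F))
  rw [Category.id_comp] at h
  rw [h, Functor.map_comp]
  refine (congrArg ((EtModW.stalk Λ ξ).map _) (map_ts₂ ξ (Du F) φ d s)).trans ?_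
  rw [Adjunction.homEquiv_counit, CategoryTheory.Functor.map_id, Category.id_comp]
  rfl

theorem nondeg_of_pre (φ : F' ⟶ F) [Mono ((pre φ).app (Mod.unitSh Λ X))] (h : Nondeg ξ F') : Nondeg ξ F :=
  fun d hd => by
    haveI : Mono ((EtModW.stalk Λ ξ).map ((pre φ).app (Mod.unitSh Λ X))) := inferInstance
    apply (ModuleCat.mono_iff_injective ((EtModW.stalk Λ ξ).map ((pre φ).app (Mod.unitSh Λ X)))).1 inferInstance
    rw [map_zero]
    exact h _ fun s => (pair_pre ξ φ d s).trans (hd _)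

theorem mono_pre_of_epi (φ : F' ⟶ F) [Epi φ] (G : EtModW.Mod Λ X) : Mono ((pre φ).app G) :=
  Preadditive.mono_of_cancel_zero _ fun {Y} y hy => by
    apply ((tensHomAdj F).homEquiv Y G).symm.injective
    rw [sym_zero, ← cancel_epi (((eT Λ X).obj Y).map φ), ← tr_pre, hy, sym_zero, comp_zero]

theorem nondeg_of_iso (e : F' ≅ F) (h : Nondeg ξ F') : Nondeg ξ F :=
  haveI := mono_pre_of_epi e.hom (Mod.unitSh Λ X)
  nondeg_of_pre ξ e.hom h

/-- The dual of the constant sheaf `Λ` pairs faithfully. -/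
theorem nondeg_unit [EtModD.HasSheafHom (Mod.unitSh Λ X)] : Nondeg ξ (Mod.unitSh Λ X) := fun d hd => by
  let D := Du (Mod.unitSh Λ X)
  let g : D ⟶ Mod.unitSh Λ X := Mod.unitHom D ≫ ev (Mod.unitSh Λ X)
  haveI : Mono g := Preadditive.mono_of_cancel_zero _ fun {Y} y hy => by
    apply ((tensHomAdj (Mod.unitSh Λ X)).homEquiv Y _).symm.injective
    rw [sym_zero, Adjunction.homEquiv_counit]
    haveI : IsIso (Mod.unitHom Y) := Mod.isIso_unitHom Y
    rw [← cancel_epi (Mod.unitHom Y), comp_zero, ← hy]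
    exact (Category.assoc _ _ _).symm.trans
      ((congrArg (· ≫ ev (Mod.unitSh Λ X)) (Mod.unitIso.inv.naturality y).symm).trans (Category.assoc _ _ _))
  apply (ModuleCat.mono_iff_injective ((EtModW.stalk Λ ξ).map g)).1 inferInstance
  rw [map_zero, Functor.map_comp]
  exact (congrArg ((EtModW.stalk Λ ξ).map (ev (Mod.unitSh Λ X))) (stalk_unitHom ξ D d)).trans (hd _)

/-- The dual of a finite constant sheaf pairs faithfully. -/
theorem nondeg_cst (A : ModuleCat.{u + 1} Λ) [Finite A] [EtModD.HasSheafHom ((Mod.cst Λ X).obj A)] :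
    Nondeg ξ ((Mod.cst Λ X).obj A) := fun d hd => by
  classical
  haveI := Fintype.ofFinite A
  let T := Mod.unitSh Λ X
  haveI : EtModD.HasSheafHom T := Mod.hasSheafHom T
  let ι : A → (T ⟶ (Mod.cst Λ X).obj A) := fun a =>
    (Mod.cst Λ X).map (ModuleCat.ofHom (LinearMap.toSpanSingleton Λ A a))
  let m : Du ((Mod.cst Λ X).obj A) ⟶ ⨁ fun _ : A => Du T := biproduct.lift fun a => (pre (ι a)).app T
  haveI : Mono m := Preadditive.mono_of_cancel_zero _ fun {Y} y hy => by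
    apply ((tensHomAdj ((Mod.cst Λ X).obj A)).homEquiv Y T).symm.injective
    rw [sym_zero]
    refine Mod.hom_eq_of_stalks _ _ fun x => tens_ext _ fun b c => ?_
    obtain ⟨a, rfl⟩ := (Mod.cstGerm_bijective (sepPoint X x) A).2 c
    have h1 : y ≫ (pre (ι a)).app T = 0 := by
      have e : m ≫ biproduct.π (fun _ : A => Du T) a = (pre (ι a)).app T := by simp [m]
      rw [← e, ← Category.assoc, hy, zero_comp]
    have h2 := congrArg ((tensHomAdj T).homEquiv Y T).symm h1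
    rw [tr_pre, sym_zero] at h2
    have h3 : (EtModW.stalk Λ (sepPoint X x)).map (ι a) (Mod.cstGerm (sepPoint X x) (ModuleCat.of Λ Λ) (1 : Λ)) =
        Mod.cstGerm (sepPoint X x) A a := by
      refine (congrArg (fun k => k (1 : Λ)) (Mod.cstGerm_naturality (sepPoint X x)
        (ModuleCat.ofHom (LinearMap.toSpanSingleton Λ A a)))).trans ?_
      exact congrArg (Mod.cstGerm (sepPoint X x) A) (one_smul Λ a)
    have h4 := congrArg (fun k => (EtModW.stalk Λ (sepPoint X x)).map k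
      (ts (sepPoint X x) b (Mod.cstGerm (sepPoint X x) (ModuleCat.of Λ Λ) (1 : Λ) :
        (EtModW.stalk Λ (sepPoint X x)).obj T))) h2
    simp only [Functor.map_comp, Functor.map_zero] at h4
    refine ((congrArg ((EtModW.stalk Λ (sepPoint X x)).map _)
      ((congrArg (fun c => ts (sepPoint X x) b c) h3.symm).trans (map_ts₂ (sepPoint X x) Y (ι a) b _).symm)).trans h4).trans ?_
    rw [Functor.map_zero]
    rfl
  apply (ModuleCat.mono_iff_injective ((EtModW.stalk Λ ξ).map m)).1 inferInstance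
  rw [map_zero]
  let B := fun _ : A => Du T
  have h5 : ∀ a, (EtModW.stalk Λ ξ).map ((pre (ι a)).app T) d = 0 := fun a =>
    nondeg_unit ξ _ fun s => (pair_pre ξ (ι a) d s).trans (hd _)
  have h6 : m = ∑ a, (pre (ι a)).app T ≫ biproduct.ι B a := by
    refine biproduct.hom_ext _ _ fun b => ?_
    rw [Preadditive.sum_comp, Finset.sum_eq_single b]
    · erw [Category.assoc, biproduct.ι_π_self, Category.comp_id]
      exact biproduct.lift_π _ b
    · intro c _ hc
      erw [Category.assoc, biproduct.ι_π_ne B hc, comp_zero]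
    · exact fun h => absurd (Finset.mem_univ b) h
  suffices key : ∀ S : Finset A, (EtModW.stalk Λ ξ).map (∑ a ∈ S, (pre (ι a)).app T ≫ biproduct.ι B a) d = 0 by
    rw [h6]; exact key _
  intro S
  induction S using Finset.induction with
  | empty => rw [Finset.sum_empty, Functor.map_zero]; rfl
  | insert a S ha ih =>
    rw [Finset.sum_insert ha, Functor.map_add]
    refine (congrArg₂ (· + ·) ?_ ih).trans (add_zero (0 : (EtModW.stalk Λ ξ).obj (⨁ B)))
    rw [Functor.map_comp]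
    exact (congrArg ((EtModW.stalk Λ ξ).map (biproduct.ι B a)) (h5 a)).trans (map_zero _)

end Pair

section Const

variable (A B : ModuleCat.{u + 1} Λ) {Ω : Type u} [Field Ω] [IsSepClosed Ω] (ξ : Spec (CommRingCat.of Ω) ⟶ X)

theorem germ_cstTensHom (a : A) (b : B) :
    (EtModW.stalk Λ ξ).map (Mod.cstTensHom A B) (Mod.cstGerm ξ (A ⊗ B) (a ⊗ₜ[Λ] b)) =
      ts ξ (Mod.cstGerm ξ A a) (Mod.cstGerm ξ B b) := by
  let W := EtCoh.top X
  refine (congrArg (fun k => k (a ⊗ₜ[Λ] b)) (Mod.germ_cstSec_map ξ (Mod.cstTensHom A B) W (topPt ξ))).trans ?_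
  refine Eq.trans ?_ (germ_tsec ξ (Mod.cstSec A W a) (Mod.cstSec B W b) (topPt ξ))
  refine congrArg ((Scheme.pointSmallEtale ξ).toPresheafFiber W (topPt ξ)
    (Mod.tens ((Mod.cst Λ X).obj A) ((Mod.cst Λ X).obj B)).obj) ?_
  exact congrArg (fun k => k.app (op W) (a ⊗ₜ[Λ] b))
    (toSheafify_naturality X.smallEtaleTopology (Mod.cstTensPre A B)).symm

variable [EtModD.HasSheafHom ((Mod.cst Λ X).obj A)]

/-- The dual module. -/
abbrev dualMod : ModuleCat.{u + 1} Λ := ModuleCat.of Λ (A →ₗ[Λ] Λ)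

/-- The evaluation of modules. -/
def evMod : dualMod A ⊗ A ⟶ ModuleCat.of Λ Λ := ModuleCat.ofHom (TensorProduct.lift LinearMap.id)

/-- The constant dual maps to the dual of the constant sheaf. -/
def nu : (Mod.cst Λ X).obj (dualMod A) ⟶ Du ((Mod.cst Λ X).obj A) :=
  (Mod.tensHomAdj ((Mod.cst Λ X).obj A)).homEquiv _ _
    ((Mod.cstTensIso (dualMod A) A).inv ≫ (Mod.cst Λ X).map (evMod A))

theorem pair_nu (φ : A →ₗ[Λ] Λ) (a : A) :
    pair ξ _ ((EtModW.stalk Λ ξ).map (nu A) (Mod.cstGerm ξ (dualMod A) φ)) (Mod.cstGerm ξ A a) =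
      Mod.cstGerm ξ (ModuleCat.of Λ Λ) (φ a) := by
  rw [pair_tr, nu, Equiv.symm_apply_apply, Functor.map_comp, ← germ_cstTensHom (dualMod A) A ξ φ a]
  have h := congrArg (fun k => (EtModW.stalk Λ ξ).map k (Mod.cstGerm ξ (dualMod A ⊗ A) (φ ⊗ₜ[Λ] a)))
    (Mod.cstTensIso (X := X) (dualMod A) A).hom_inv_id
  simp only [Functor.map_comp, CategoryTheory.Functor.map_id] at h
  refine (congrArg ((EtModW.stalk Λ ξ).map ((Mod.cst Λ X).map (evMod A))) h).trans ?_
  exact congrArg (fun k => k (φ ⊗ₜ[Λ] a)) (Mod.cstGerm_naturality ξ (evMod A))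

theorem isIso_nu [Finite A] : IsIso (nu (X := X) A) := by
  refine Mod.isIso_of_stalks _ fun x => (ConcreteCategory.isIso_iff_bijective _).2 ?_
  let η := sepPoint X x
  let F := (Mod.cst Λ X).obj A
  let g := LinearEquiv.ofBijective (Mod.cstGerm η (ModuleCat.of Λ Λ)).hom (Mod.cstGerm_bijective η _)
  refine ⟨(injective_iff_map_eq_zero _).2 fun z hz => ?_, fun d => ?_⟩
  · obtain ⟨φ, rfl⟩ := (Mod.cstGerm_bijective η (dualMod A)).2 z
    have hφ : φ = 0 := LinearMap.ext fun a => (Mod.cstGerm_bijective η (ModuleCat.of Λ Λ)).1 <| by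
      rw [← pair_nu A η φ a, hz, pair, ts, TensorProduct.zero_tmul, map_zero, map_zero, LinearMap.zero_apply]
      exact (map_zero _).symm
    rw [hφ]
    exact map_zero _
  · let p : A →ₗ[Λ] Λ := g.symm.toLinearMap.comp (((EtModW.stalk Λ η).map (ev F)).hom.comp
      ((Mod.tensStalk η (Du F) F).hom.comp ((TensorProduct.mk Λ _ _ d).comp (Mod.cstGerm η A).hom)))
    refine ⟨Mod.cstGerm η (dualMod A) p, (sub_eq_zero.1 (nondeg_cst η A _ fun s => ?_))⟩
    obtain ⟨a, rfl⟩ := (Mod.cstGerm_bijective η A).2 s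
    rw [pair_sub, pair_nu, sub_eq_zero]
    exact g.apply_symm_apply _

end Const

section Restrict

variable (W : X.Etale) (F : EtModW.Mod Λ X) [EtModD.HasSheafHom F]
  [EtModD.HasSheafHom ((EtSix.restrMod Λ W.hom).obj F)] [IsNoetherianRing Λ]

/-- The constant sheaf restricts to the constant sheaf. -/
def restrUnit : (EtSix.restrMod Λ W.hom).obj (Mod.unitSh Λ X) ≅ Mod.unitSh Λ W.left :=
  (Mod.pullRestrIso _ W.hom).symm.app _ ≪≫ (modPullConstIso _ W.hom).app _

/-- The restricted evaluation. -/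
def evRestr : Mod.tens ((EtSix.restrMod Λ W.hom).obj (Du (X := X) F)) ((EtSix.restrMod Λ W.hom).obj F) ⟶
    Mod.unitSh Λ W.left :=
  gamma W F ((EtSix.restrMod Λ W.hom).obj (Du (X := X) F)) ≫
    (EtSix.restrMod Λ W.hom).map (((eT Λ X).flip.obj F).map ((EtSix.extZeroModAdj Λ W.hom).counit.app (Du (X := X) F)) ≫ ev (X := X) F) ≫
      (restrUnit W).hom

/-- The restricted dual maps to the dual of the restriction. -/
def mu : (EtSix.restrMod Λ W.hom).obj (Du (X := X) F) ⟶ Du ((EtSix.restrMod Λ W.hom).obj F) :=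
  (Mod.tensHomAdj ((EtSix.restrMod Λ W.hom).obj F)).homEquiv _ _ (evRestr W F)

theorem mono_mu : Mono (mu W F) := Preadditive.mono_of_cancel_zero _ fun {Y} y hy => by
  let R := EtSix.restrMod Λ W.hom
  let E := EtSix.extZeroModAdj Λ W.hom
  let yh := (E.homEquiv Y (Du (X := X) F)).symm y
  have h0 := congrArg ((Mod.tensHomAdj (R.obj F)).homEquiv Y _).symm hy
  rw [sym_zero, Adjunction.homEquiv_naturality_left_symm, mu, Equiv.symm_apply_apply, evRestr] at h0
  replace h0 := ((Category.assoc _ _ _).symm.trans ((congrArg (· ≫ _) (gamma_nat W F y)).trans (Category.assoc _ _ _))).symm.trans h0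
  have h1 : gamma W F Y ≫ R.map (((eT Λ X).flip.obj F).map yh ≫ ev (X := X) F) = 0 := by
    rw [← cancel_mono (restrUnit W).hom, zero_comp, ← h0]
    simp only [yh, Adjunction.homEquiv_counit, Functor.map_comp, Category.assoc]
    rfl
  have h2 : (beta W F).app Y ≫ ((eT Λ X).flip.obj F).map yh ≫ ev (X := X) F = 0 := by
    show (E.homEquiv _ _).symm (gamma W F Y) ≫ _ = 0
    rw [← Adjunction.homEquiv_naturality_right_symm, h1, Adjunction.homEquiv_counit, Functor.map_zero, zero_comp]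
  have h3 : ((eT Λ X).flip.obj F).map yh ≫ ev (X := X) F = 0 := by
    haveI : IsIso ((beta W F).app Y) := inferInstance
    rw [← cancel_epi ((beta W F).app Y)]
    exact h2.trans comp_zero.symm
  have h4 : yh = 0 := by
    apply ((Mod.tensHomAdj F).homEquiv _ _).symm.injective
    rw [sym_zero, Adjunction.homEquiv_counit]
    exact h3
  apply (E.homEquiv Y (Du (X := X) F)).symm.injective
  rw [show (E.homEquiv Y (Du (X := X) F)).symm y = yh from rfl, h4, Adjunction.homEquiv_counit, Functor.map_zero, zero_comp]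

variable {Ω : Type u} [Field Ω] [IsSepClosed Ω] (ξ : Spec (CommRingCat.of Ω) ⟶ X) (u : PointLift W.hom ξ)

theorem pair_mu (d : (EtModW.stalk Λ u.1).obj ((EtSix.restrMod Λ W.hom).obj (Du (X := X) F)))
    (s : (EtModW.stalk Λ u.1).obj ((EtSix.restrMod Λ W.hom).obj F))
    (h : pair ξ F (Mod.restrStalkMap W.hom ξ u (Du (X := X) F) d) (Mod.restrStalkMap W.hom ξ u F s) = 0) :
    pair u.1 _ ((EtModW.stalk Λ u.1).map (mu W F) d) s = 0 := by
  let R := EtSix.restrMod Λ W.hom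
  let E := EtSix.extZeroModAdj Λ W.hom
  let c := ((eT Λ X).flip.obj F).map (E.counit.app (Du (X := X) F)) ≫ ev (X := X) F
  rw [pair_tr, mu, Equiv.symm_apply_apply, evRestr, Functor.map_comp, Functor.map_comp]
  have hr : (EtModW.stalk Λ u.1).map (R.map c) ≫ Mod.restrStalkMap W.hom ξ u (Mod.unitSh Λ X) =
      Mod.restrStalkMap W.hom ξ u _ ≫ (EtModW.stalk Λ ξ).map c := by
    rw [Mod.restrStalkMap, Mod.restrStalkMap, ← Category.assoc]
    refine (congrArg (· ≫ _) (Mod.extZeroInj_naturality W.hom ξ (R.map c) u)).trans ?_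
    refine (Category.assoc _ _ _).trans ?_
    refine Eq.trans ?_ (Category.assoc _ _ _).symm
    refine congrArg (Mod.extZeroInj W.hom ξ _ u ≫ ·) ?_
    rw [← Functor.map_comp, ← Functor.map_comp]
    exact congrArg (EtModW.stalk Λ ξ).map (E.counit.naturality c)
  let g := (EtModW.stalk Λ u.1).map (gamma W F (R.obj (Du (X := X) F))) (ts u.1 d s)
  suffices h1 : (EtModW.stalk Λ u.1).map (R.map c) g = 0 by
    exact (congrArg ((EtModW.stalk Λ u.1).map (restrUnit W).hom) h1).trans (map_zero _)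
  apply (Mod.restrStalkMap_bijective W.hom ξ u (Mod.unitSh Λ X)).1
  rw [map_zero]
  refine (congrArg (fun k : (EtModW.stalk Λ u.1).obj _ ⟶ (EtModW.stalk Λ ξ).obj (Mod.unitSh Λ X) => k g) hr).trans ?_
  have hg := congrArg (fun k => k (d ⊗ₜ[Λ] s)) (stalk_gamma W F ξ (R.obj (Du (X := X) F)) u)
  refine (congrArg ((EtModW.stalk Λ ξ).map c) hg).trans ?_
  rw [Functor.map_comp]
  exact (congrArg ((EtModW.stalk Λ ξ).map (ev (X := X) F)) (map_ts₁ ξ (E.counit.app (Du (X := X) F)) F _ _)).trans h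

theorem nondeg_of_restr (h : Nondeg u.1 ((EtSix.restrMod Λ W.hom).obj F)) : Nondeg ξ F := fun d hd => by
  obtain ⟨d, rfl⟩ := (Mod.restrStalkMap_bijective W.hom ξ u (Du (X := X) F)).2 d
  haveI := mono_mu W F
  have h0 : (EtModW.stalk Λ u.1).map (mu W F) d = 0 := h _ fun s => pair_mu W F ξ u d s (hd _)
  rw [(ModuleCat.mono_iff_injective ((EtModW.stalk Λ u.1).map (mu W F))).1 inferInstance (h0.trans (map_zero _).symm), map_zero]

end Restrict

section ZMod

variable (n : ℕ) [NeZero n] {F : EtModW.Mod (ULift.{u + 1} (ZMod n)) X} [EtModD.HasSheafHom F]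

/-- Sheaf Hom into `Z/n` is contravariant. -/
def preIso {F' : EtModW.Mod (ULift.{u + 1} (ZMod n)) X} [EtModD.HasSheafHom F'] (e : F' ≅ F) : Du (X := X) F ≅ Du (X := X) F' :=
  ((conjugateIsoEquiv (Mod.tensHomAdj F) (Mod.tensHomAdj F')) ((Mod.eT _ X).flip.mapIso e)).app _

/-- A trivialisation gives a trivialisation of the dual. -/
theorem triv_du {W : X.Etale} {A : ModuleCat.{u + 1} (ULift.{u + 1} (ZMod n))} [Finite A]
    (h : Mod.Triv W.hom F A) : Mod.Triv W.hom (Du (X := X) F) (dualMod A) := by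
  obtain ⟨e⟩ := h
  let R := EtSix.restrMod (ULift.{u + 1} (ZMod n)) W.hom
  let F' := R.obj F
  let C := (Mod.cst (ULift.{u + 1} (ZMod n)) W.left).obj A
  haveI : EtModD.HasSheafHom F' := Mod.hasSheafHom _
  haveI : EtModD.HasSheafHom C := Mod.hasSheafHom _
  haveI : EtModD.HasSheafHom ((EtSix.restrMod (ULift.{u + 1} (ZMod n)) W.hom).obj F) := ‹EtModD.HasSheafHom F'›
  haveI : EtModD.HasSheafHom ((Mod.cst (ULift.{u + 1} (ZMod n)) ((𝟭 Scheme).obj W.left)).obj A) := ‹EtModD.HasSheafHom C›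
  haveI := isIso_nu (X := W.left) A
  exact ⟨(Mod.pullRestrIso _ W.hom).app (Du (X := X) F) ≪≫ (restrHomIso W F).app _ ≪≫
    (EtModD.sheafHom F').mapIso (restrUnit W) ≪≫ preIso n (e.symm ≪≫ (Mod.pullRestrIso _ W.hom).app F) ≪≫
      (asIso (nu (X := W.left) A)).symm⟩

variable (hF : EtModW.IsFTLocConst (ULift.{u + 1} (ZMod n)) F)
include hF

theorem isFTLocConst_du : EtModW.IsFTLocConst (ULift.{u + 1} (ZMod n)) (Du (X := X) F) := by
  rw [Mod.isFTLocConst_iff] at hF ⊢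
  intro x
  obtain ⟨U, y, A, hy, hA, hUA⟩ := hF x
  haveI : Module.Finite (ULift.{u + 1} (ZMod n)) A := hA
  haveI : Finite A := Module.finite_of_finite (ULift.{u + 1} (ZMod n))
  haveI : Finite (A →ₗ[ULift.{u + 1} (ZMod n)] ULift.{u + 1} (ZMod n)) := Finite.of_injective _ DFunLike.coe_injective
  exact ⟨U, y, dualMod A, hy, @Module.Finite.of_finite (ULift.{u + 1} (ZMod n)) (A →ₗ[ULift.{u + 1} (ZMod n)] ULift.{u + 1} (ZMod n)) _ _ _ inferInstance,
    triv_du n hUA⟩

variable {Ω : Type u} [Field Ω] [IsSepClosed Ω] (ξ : Spec (CommRingCat.of Ω) ⟶ X)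

theorem finite_card_du : Finite ((EtModW.stalk (ULift.{u + 1} (ZMod n)) ξ).obj F) ∧
    Finite ((EtModW.stalk (ULift.{u + 1} (ZMod n)) ξ).obj (Du (X := X) F)) ∧
    Nat.card ((EtModW.stalk (ULift.{u + 1} (ZMod n)) ξ).obj (Du (X := X) F)) =
      Nat.card ((EtModW.stalk (ULift.{u + 1} (ZMod n)) ξ).obj F) ∧ Nondeg ξ F := by
  obtain ⟨U, y, A, hy, hA, hUA⟩ := Mod.isFTLocConst_iff.mp hF (ξ default)
  haveI : Module.Finite (ULift.{u + 1} (ZMod n)) A := hA
  haveI : Finite A := Module.finite_of_finite (ULift.{u + 1} (ZMod n))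
  haveI : Finite (A →ₗ[ULift.{u + 1} (ZMod n)] ULift.{u + 1} (ZMod n)) := Finite.of_injective _ DFunLike.coe_injective
  obtain ⟨a⟩ := Mod.nonempty_stalk_iso' hUA ξ y hy
  obtain ⟨b⟩ := Mod.nonempty_stalk_iso' (triv_du n hUA) ξ y hy
  refine ⟨Finite.of_equiv A a.toLinearEquiv.symm.toEquiv,
    Finite.of_equiv (A →ₗ[ULift.{u + 1} (ZMod n)] ULift.{u + 1} (ZMod n)) b.toLinearEquiv.symm.toEquiv, ?_, ?_⟩
  · rw [Nat.card_congr b.toLinearEquiv.toEquiv, Nat.card_congr a.toLinearEquiv.toEquiv]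
    exact card_zdual n
  obtain ⟨v, -⟩ := exists_fiber_point ξ U y hy
  let u : PointLift U.hom ξ := ⟨v.left, Over.w v⟩
  obtain ⟨e⟩ := hUA
  haveI : EtModD.HasSheafHom ((EtSix.restrMod (ULift.{u + 1} (ZMod n)) U.hom).obj F) := Mod.hasSheafHom _
  haveI : EtModD.HasSheafHom ((Mod.cst (ULift.{u + 1} (ZMod n)) ((𝟭 Scheme).obj U.left)).obj A) := Mod.hasSheafHom _
  exact nondeg_of_restr U F ξ u (nondeg_of_iso u.1 (e.symm ≪≫ (Mod.pullRestrIso _ U.hom).app F) (nondeg_cst u.1 A))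

end ZMod

end Groth.Agent.Et18.PushDual
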