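import Groth.Agent.Et18.PushDual.Punct
import Groth.Agent.Et18.PushDual.Bidual
import Groth.Agent.Et18.ExtSheaf.RpushEtale
import Groth.Agent.Et18.Mod.Immersion
import Groth.Agent.Et18.Mod.TensorNat

/-!
# Sheaf Hom into a direct image, and the unit for the constant sheaf
-/

universe u

open CategoryTheory CategoryTheory.Limits AlgebraicGeometry Opposite MonoidalCategory
open Groth.Agent.Et18 Groth.Agent.Et18.Mod Groth.Agent.Et18.ExtSheaf

set_option backward.isDefEq.respectTransparency.types false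
set_option backward.isDefEq.respectTransparency false
set_option synthInstance.maxHeartbeats 200000
set_option maxHeartbeats 1000000
set_option linter.all false

noncomputable section

namespace Groth.Agent.Et18.PushDual

section Hom

variable {Λ : Type (u + 1)} [CommRing Λ] {X U : Scheme.{u}} (j : U ⟶ X) (A : EtModW.Mod Λ X)
  [EtModD.HasSheafHom A] [EtModD.HasSheafHom ((EtModW.pull Λ j).obj A)]

/-- Inverse images commute with `- ⊗ A`. -/
def pullTensNat : (eT Λ X).flip.obj A ⋙ EtModW.pull Λ j ≅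
    EtModW.pull Λ j ⋙ (eT Λ U).flip.obj ((EtModW.pull Λ j).obj A) :=
  NatIso.ofComponents (fun Y => Mod.pullTensIso j Y A) fun {Y Y'} a => Mod.pullTensHom_nat₁ j a A

/-- Sheaf Hom into a direct image. -/
def homPushIso : EtModW.push Λ j ⋙ EtModD.sheafHom A ≅
    EtModD.sheafHom ((EtModW.pull Λ j).obj A) ⋙ EtModW.push Λ j :=
  Adjunction.rightAdjointUniq ((Mod.tensHomAdj A).comp (modAdj Λ j))
    (((modAdj Λ j).comp (Mod.tensHomAdj ((EtModW.pull Λ j).obj A))).ofNatIsoLeft (pullTensNat j A).symm)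

end Hom

variable (n : ℕ) [NeZero n] {X U : Scheme.{u}} [AlgebraicGeometry.IsNoetherian X]
    (hreg : ∀ x : X, IsRegularLocalRing (X.presheaf.stalk x))
    (hdim : ∀ x : X, ringKrullDim (X.presheaf.stalk x) ≤ 1)
    (j : U ⟶ X) [IsOpenImmersion j]
    (hY1 : ∀ y : X, y ∉ Set.range j.base → ringKrullDim (X.presheaf.stalk y) = 1)
include hreg hdim hY1

/-- The constant sheaf is the direct image of its restriction. -/
theorem nonempty_unit_iso_push : Nonempty (Mod.unitSh (ULift.{u + 1} (ZMod n)) X ≅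
    (EtModW.push (ULift.{u + 1} (ZMod n)) j).obj (Mod.unitSh (ULift.{u + 1} (ZMod n)) U)) := by
  let M := ModuleCat.of (ULift.{u + 1} (ZMod n)) (ULift.{u + 1} (ZMod n))
  let T := (Mod.cst (ULift.{u + 1} (ZMod n)) X).obj M
  let fg := forget₂ (ModuleCat.{u + 1} (ULift.{u + 1} (ZMod n))) AddCommGrpCat.{u + 1}
  haveI := ConsDimOne.preservesSheafification_forget (Λ := ULift.{u + 1} (ZMod n)) X
  let c : (EtModD.forgetToAb _ X).obj T ≅ (cst X).obj (fg.obj M) :=
    (constantCommuteCompose X.smallEtaleTopology fg).app M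
  haveI hpsi : IsIso (UnitConst.psi j (fg.obj M)) :=
    UnitConst.isIso_psi j _ (PurityDimOne.good_openImmersion hreg hdim j hY1 _)
  haveI h1 : IsIso ((EtCoh.pullPushAdj j).unit.app ((cst X).obj (fg.obj M))) := by
    have h : UnitConst.psi j (fg.obj M) = (EtCoh.pullPushAdj j).unit.app _ ≫
        (EtCoh.push j).map ((EtCore.pullConstIso j).app (fg.obj M)).hom := Adjunction.homEquiv_unit ..
    rw [h] at hpsi
    exact IsIso.of_isIso_comp_right _ ((EtCoh.push j).map ((EtCore.pullConstIso j).app (fg.obj M)).hom)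
  haveI h2 : IsIso ((EtCoh.pullPushAdj j).unit.app ((EtModD.forgetToAb _ X).obj T)) :=
    (NatTrans.isIso_app_iff_of_iso _ c).2 h1
  haveI h3 : IsIso ((EtModD.forgetToAb (ULift.{u + 1} (ZMod n)) X).map ((modAdj _ j).unit.app T)) := by
    rw [← unit_pullForget j T]
    infer_instance
  haveI : IsIso ((modAdj (ULift.{u + 1} (ZMod n)) j).unit.app T) := isIso_of_reflects_iso _ (EtModD.forgetToAb _ X)
  exact ⟨asIso ((modAdj _ j).unit.app T) ≪≫ (EtModW.push _ j).mapIso ((modPullConstIso _ j).app M)⟩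

variable (F : EtModW.Mod (ULift.{u + 1} (ZMod n)) U) [EtModD.HasSheafHom F]
  [EtModD.HasSheafHom ((EtModW.push (ULift.{u + 1} (ZMod n)) j).obj F)]

/-- Sheaf Hom out of a direct image into the constant sheaf. -/
theorem nonempty_hom_push : Nonempty ((EtModD.sheafHom ((EtModW.push (ULift.{u + 1} (ZMod n)) j).obj F)).obj
      (Mod.unitSh (ULift.{u + 1} (ZMod n)) X) ≅ (EtModW.push (ULift.{u + 1} (ZMod n)) j).obj (Du F)) := by
  obtain ⟨e⟩ := nonempty_unit_iso_push n hreg hdim j hY1
  let G := (EtModW.push (ULift.{u + 1} (ZMod n)) j).obj F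
  haveI : EtModD.HasSheafHom ((EtModW.pull (ULift.{u + 1} (ZMod n)) j).obj G) := Mod.hasSheafHom _
  haveI := Mod.isIso_counit_app j F
  let a : (EtModW.pull (ULift.{u + 1} (ZMod n)) j).obj G ≅ F := @asIso _ _ _ _ ((Mod.pullPushAdj _ j).counit.app F) this
  exact ⟨(EtModD.sheafHom G).mapIso e ≪≫ (homPushIso j G).app _ ≪≫
    (EtModW.push (ULift.{u + 1} (ZMod n)) j).mapIso (preIso n a.symm)⟩

end Groth.Agent.Et18.PushDual
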