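import Groth.Agent.Et18.PushDual.Global
import Groth.Agent.Et18.PushDual.Count

/-!
# Sheaf Ext at a boundary point
-/

universe u

open CategoryTheory CategoryTheory.Limits AlgebraicGeometry Opposite MonoidalCategory
open Groth.Agent.Et18 Groth.Agent.SiteCoh Groth.Agent.Et18.Mod Groth.Agent.Et18.ExtSheaf

set_option backward.isDefEq.respectTransparency.types false
set_option backward.isDefEq.respectTransparency false
set_option synthInstance.maxHeartbeats 200000
set_option maxHeartbeats 1000000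
set_option linter.all false

noncomputable section

namespace Groth.Agent.Et18.PushDual

variable (n : ℕ) [NeZero n] {X : Scheme.{u}}

theorem isZero_ext_of_iso {C C' : EtModW.Mod (ULift.{u + 1} (ZMod n)) X} [EtModD.HasSheafHom C] [EtModD.HasSheafHom C']
    (e : C ≅ C') (G : EtModW.Mod (ULift.{u + 1} (ZMod n)) X) (q : ℕ) (h : IsZero ((EtModD.extSheaf C' q).obj G)) :
    IsZero ((EtModD.extSheaf C q).obj G) :=
  h.of_iso ((rightDerivedCongr ((conjugateIsoEquiv (Mod.tensHomAdj C) (Mod.tensHomAdj C'))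
    ((Mod.eT _ X).flip.mapIso e.symm)) q).app G)

/-- Higher sheaf Ext out of locally constant sheaves vanish. -/
theorem isZero_ext_ftlc {C : EtModW.Mod (ULift.{u + 1} (ZMod n)) X}
    (hC : EtModW.IsFTLocConst (ULift.{u + 1} (ZMod n)) C) [EtModD.HasSheafHom C] (p : ℕ) :
    IsZero ((EtModD.extSheaf C (p + 1)).obj (Mod.unitSh (ULift.{u + 1} (ZMod n)) X)) := by
  refine Mod.isZero_of_stalks fun x => ?_
  obtain ⟨W, y, A, hy, hA, ⟨e⟩⟩ := Mod.isFTLocConst_iff.mp hC x
  haveI : Module.Finite (ULift.{u + 1} (ZMod n)) A := hA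
  haveI : Finite A := Module.finite_of_finite (ULift.{u + 1} (ZMod n))
  let R := EtSix.restrMod (ULift.{u + 1} (ZMod n)) W.hom
  haveI : EtModD.HasSheafHom ((EtSix.restrMod (ULift.{u + 1} (ZMod n)) W.hom).obj C) := Mod.hasSheafHom _
  haveI : EtModD.HasSheafHom ((Mod.cst (ULift.{u + 1} (ZMod n)) ((𝟭 Scheme).obj W.left)).obj A) := Mod.hasSheafHom _
  refine (Mod.isZero_stalk_iff _ (sepPoint X x) (sepPoint W.left y ≫ W.hom)
    ((sepPoint_default X x).trans ((congrArg W.hom (sepPoint_default W.left y)).trans hy).symm)).2 ?_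
  refine (isZero_stalk_ext_iff n W C (sepPoint W.left y) (p + 1)).2 ((EtModW.stalk _ _).map_isZero ?_)
  exact isZero_ext_of_iso n ((Mod.pullRestrIso _ W.hom).symm.app C ≪≫ e) _ _ (isZero_ext_cst n A p)

/-- The order of the stalks of duals of constant sheaves. -/
theorem card_stalk_du_cst (M : ModuleCat.{u + 1} (ULift.{u + 1} (ZMod n))) [Finite M]
    [EtModD.HasSheafHom ((Mod.cst (ULift.{u + 1} (ZMod n)) X).obj M)] {Ω : Type u} [Field Ω] [IsSepClosed Ω]
    (ξ : Spec (CommRingCat.of Ω) ⟶ X) :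
    Finite ((EtModW.stalk (ULift.{u + 1} (ZMod n)) ξ).obj (Du ((Mod.cst (ULift.{u + 1} (ZMod n)) X).obj M))) ∧
      Nat.card ((EtModW.stalk (ULift.{u + 1} (ZMod n)) ξ).obj (Du ((Mod.cst (ULift.{u + 1} (ZMod n)) X).obj M))) =
        Nat.card M := by
  haveI := isIso_nu (X := X) M
  haveI : Finite (M →ₗ[ULift.{u + 1} (ZMod n)] ULift.{u + 1} (ZMod n)) := Finite.of_injective _ DFunLike.coe_injective
  let e := (asIso (Mod.cstGerm ξ (dualMod M)) ≪≫ (EtModW.stalk _ ξ).mapIso (asIso (nu (X := X) M))).toLinearEquiv.toEquiv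
  exact ⟨Finite.of_equiv _ e, (Nat.card_congr e).symm.trans (card_zdual n)⟩

variable [AlgebraicGeometry.IsNoetherian X] (hreg : ∀ x : X, IsRegularLocalRing (X.presheaf.stalk x))
    (hdim : ∀ x : X, ringKrullDim (X.presheaf.stalk x) ≤ 1) (hn : IsUnit (n : Γ(X, ⊤)))
include hreg hdim hn

/-- Sheaf Ext out of a sheaf vanishing at the only missing point. -/
theorem supported_small (W : X.Etale) [IsOpenImmersion W.hom] (x : X) (hx : ringKrullDim (X.presheaf.stalk x) = 1)
    (hW : Set.range W.hom = {x}ᶜ) {C : EtModW.Mod (ULift.{u + 1} (ZMod n)) X} [EtModD.HasSheafHom C]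
    (h0 : IsZero ((EtModW.stalk (ULift.{u + 1} (ZMod n)) (pt x)).obj C))
    (hC : EtModW.IsFTLocConst (ULift.{u + 1} (ZMod n)) ((EtSix.restrMod (ULift.{u + 1} (ZMod n)) W.hom).obj C)) :
    IsZero ((EtModD.extSheaf C 2).obj (Mod.unitSh (ULift.{u + 1} (ZMod n)) X)) ∧
    Finite ((EtModW.stalk (ULift.{u + 1} (ZMod n)) (pt x)).obj (Du C)) ∧
    Finite ((EtModW.stalk (ULift.{u + 1} (ZMod n)) (pt x)).obj ((EtModD.extSheaf C 1).obj (Mod.unitSh (ULift.{u + 1} (ZMod n)) X))) ∧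
    Nat.card ((EtModW.stalk (ULift.{u + 1} (ZMod n)) (pt x)).obj ((EtModD.extSheaf C 1).obj (Mod.unitSh (ULift.{u + 1} (ZMod n)) X))) =
      Nat.card ((EtModW.stalk (ULift.{u + 1} (ZMod n)) (pt x)).obj (Du C)) := by
  let Λ := ULift.{u + 1} (ZMod n)
  let R := EtSix.restrMod Λ W.hom
  let T := Mod.unitSh Λ X
  have hsupp : ∀ y, y ∉ Set.range W.hom → IsZero ((EtModW.stalk Λ (sepPoint X y)).obj C) := fun y hy => by
    rw [hW, Set.mem_compl_iff, not_not, Set.mem_singleton_iff] at hy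
    subst hy
    exact (Mod.isZero_stalk_iff C (sepPoint X y) (pt y) ((sepPoint_default X y).trans (pt_default y).symm)).2 h0
  have hY1 : ∀ y : X, y ∉ Set.range W.hom.base → ringKrullDim (X.presheaf.stalk y) = 1 := fun y hy => by
    have : y = x := by
      by_contra hne
      exact hy (show y ∈ Set.range W.hom from hW.symm ▸ hne)
    rw [this]; exact hx
  haveI : EtModD.HasSheafHom ((EtSix.restrMod (ULift.{u + 1} (ZMod n)) W.hom).obj C) := Mod.hasSheafHom _
  haveI : EtModD.HasSheafHom (X := W.left) ((EtSix.restrMod (ULift.{u + 1} (ZMod n)) W.hom).obj C) := Mod.hasSheafHom _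
  have hE : ∀ p : ℕ, IsZero ((EtSix.restrMod Λ W.hom).obj ((EtModD.extSheaf C (p + 1)).obj T)) := fun p => by
    obtain ⟨e⟩ := nonempty_restr_extSheaf W C T (p + 1)
    refine IsZero.of_iso ?_ (e ≪≫ (EtModD.extSheaf _ (p + 1)).mapIso (restrUnitIso n W))
    exact isZero_ext_ftlc n hC p
  refine ⟨isZero_ext_supported W C T hsupp hE (isZero_R2_push n hreg hdim hn W.hom hY1) 0, ?_⟩
  let H := EtModD.sheafHom C
  haveI : PreservesFiniteLimits H :=
    haveI : PreservesLimitsOfSize.{0, 0} H := (EtModD.sheafHomAdj C).rightAdjoint_preservesLimits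
    PreservesLimitsOfSize.preservesFiniteLimits _
  haveI : PreservesFiniteLimits (EtModW.push Λ W.hom) :=
    haveI : PreservesLimitsOfSize.{0, 0} (EtModW.push Λ W.hom) :=
      (Mod.pullPushAdj Λ W.hom).rightAdjoint_preservesLimits
    PreservesLimitsOfSize.preservesFiniteLimits _
  let s := suppHomIso W C hsupp
  obtain ⟨c⟩ := nonempty_rightDerived_comp (H ⋙ R) (EtModW.push Λ W.hom) (fun I hI p => by
      haveI : (EtSix.restrMod Λ W.hom).PreservesInjectiveObjects :=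
        Functor.preservesInjectiveObjects_of_adjunction_of_preservesMonomorphisms (EtSix.extZeroModAdj Λ W.hom)
      haveI := hI
      have hIR : Injective ((EtSix.restrMod Λ W.hom).obj I) := Functor.injective_obj _ I
      refine IsZero.of_iso ?_ (((EtModW.push Λ W.hom).rightDerived (p + 1)).mapIso ((restrHomIso W C).app I))
      exact isZero_Rpush_of_ext W.hom p _ fun q A hA => @InjDim.ext_sheafHom_eq_zero _ _ _
        ((EtSix.restrMod Λ W.hom).obj C) _ _ hIR q A hA) T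
    (fun p => (hE p).of_iso ((rightDerivedCompExactIso H R (p + 1)).app T)) 1
  let Z : EtModW.Mod Λ W.left := (EtSix.restrMod Λ W.hom).obj (H.obj T)
  have hZ : EtModW.IsFTLocConst Λ Z := Mod.isFTLocConst_of_iso (isFTLocConst_du n hC)
    ((restrHomIso W C).app T ≪≫ (EtModD.sheafHom ((EtSix.restrMod (ULift.{u + 1} (ZMod n)) W.hom).obj C)).mapIso (restrUnitIso n W)).symm
  have hxr : x ∉ Set.range W.hom := fun h => by rw [hW] at h; exact h rfl
  obtain ⟨h0f, h1f, h01⟩ := card_stalk_Rpush_one n (X := X) W.hom x hreg hdim hn hY1 hxr hZ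
  let e0 := ((EtModW.stalk Λ (pt x)).mapIso (s.app T)).toLinearEquiv.toEquiv
  let e1 := ((EtModW.stalk Λ (pt x)).mapIso ((rightDerivedCongr s 1).app T ≪≫ c)).toLinearEquiv.toEquiv
  exact ⟨@Finite.of_equiv _ _ h0f e0.symm, @Finite.of_equiv _ _ h1f e1.symm,
    (Nat.card_congr e1).trans (h01.trans (Nat.card_congr e0).symm)⟩

/-- The boundary computation on a small neighbourhood. -/
theorem boundary_small (W : X.Etale) [IsOpenImmersion W.hom] (x : X) (hx : ringKrullDim (X.presheaf.stalk x) = 1)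
    (hW : Set.range W.hom = {x}ᶜ) {M : ModuleCat.{u + 1} (ULift.{u + 1} (ZMod n))} [Finite M]
    {G : EtModW.Mod (ULift.{u + 1} (ZMod n)) X} [EtModD.HasSheafHom G]
    (ψ : (Mod.cst (ULift.{u + 1} (ZMod n)) X).obj M ⟶ G) (hmono : Mono ψ)
    (hiso : IsIso ((EtModW.stalk (ULift.{u + 1} (ZMod n)) (pt x)).map ψ))
    (hG : EtModW.IsFTLocConst (ULift.{u + 1} (ZMod n)) ((EtSix.restrMod (ULift.{u + 1} (ZMod n)) W.hom).obj G)) :
    IsZero ((EtModW.stalk (ULift.{u + 1} (ZMod n)) (pt x)).obj ((EtModD.extSheaf G 2).obj (Mod.unitSh (ULift.{u + 1} (ZMod n)) X))) ∧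
    Finite ((EtModW.stalk (ULift.{u + 1} (ZMod n)) (pt x)).obj ((EtModD.extSheaf G 1).obj (Mod.unitSh (ULift.{u + 1} (ZMod n)) X))) ∧
    Nat.card ((EtModW.stalk (ULift.{u + 1} (ZMod n)) (pt x)).obj ((EtModD.extSheaf G 1).obj (Mod.unitSh (ULift.{u + 1} (ZMod n)) X))) *
      Nat.card M = Nat.card ((EtModW.stalk (ULift.{u + 1} (ZMod n)) (pt x)).obj (Du G)) := by
  let Λ := ULift.{u + 1} (ZMod n)
  let Φ := EtModW.stalk Λ (pt x)
  let T := Mod.unitSh Λ X
  haveI := hmono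
  haveI := hiso
  let S : ShortComplex (EtModW.Mod Λ X) := ShortComplex.mk ψ (cokernel.π ψ) (cokernel.condition ψ)
  have hS : S.ShortExact := { exact := ShortComplex.exact_cokernel _ }
  haveI : EtModD.HasSheafHom S.X₁ := Mod.hasSheafHom _
  haveI : EtModD.HasSheafHom S.X₂ := ‹EtModD.HasSheafHom G›
  haveI : EtModD.HasSheafHom S.X₃ := Mod.hasSheafHom _
  haveI : EtModD.HasSheafHom ((Mod.cst (ULift.{u + 1} (ZMod n)) X).obj M) := ‹EtModD.HasSheafHom S.X₁›
  haveI : Module.Finite (ULift.{u + 1} (ZMod n)) M := Module.Finite.of_finite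
  have hC : EtModW.IsFTLocConst Λ ((EtSix.restrMod Λ W.hom).obj S.X₃) := by
    have e1 : (EtSix.restrMod Λ W.hom).obj ((Mod.cst Λ X).obj M) ≅ (Mod.cst Λ W.left).obj M :=
      (Mod.pullRestrIso Λ W.hom).symm.app _ ≪≫ (modPullConstIso Λ W.hom).app M
    exact Mod.isFTLocConst_of_iso (Mod.isFTLocConst_cokernel ((EtSix.restrMod Λ W.hom).map ψ)
      (Mod.isFTLocConst_of_iso (Mod.isFTLocConst_cst M) e1.symm) hG)
      (PreservesCokernel.iso (EtSix.restrMod Λ W.hom) ψ).symm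
  obtain ⟨hC2, hfC, hfC1, hcardC⟩ := supported_small n hreg hdim hn W x hx hW
    (C := S.X₃) (isZero_stalk_kernel_cokernel n ψ (pt x)).2 hC
  refine ⟨?_, ?_⟩
  · obtain ⟨f, g, w, hex⟩ := exists_exact_middle hS T 2
    exact (hex.map Φ).isZero_X₂ ((Φ.map_isZero hC2).eq_of_src _ _)
      ((Φ.map_isZero (isZero_ext_cst n M 1)).eq_of_tgt _ _)
  obtain ⟨f, g, d, h, k, w₁, w₂, w₃, w₄, hf, e₁, e₂, e₃, e₄⟩ := exists_les_zero hS T
  haveI := hf
  haveI : Epi (Φ.map h) := (e₄.map Φ).epi_f ((Φ.map_isZero (isZero_ext_cst n M 0)).eq_of_tgt _ _)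
  obtain ⟨hfM, hcardM⟩ := card_stalk_du_cst n M (pt x)
  haveI : Finite (Φ.obj ((EtModD.sheafHom S.X₁).obj T)) := hfM
  haveI : Finite (Φ.obj ((EtModD.sheafHom S.X₃).obj T)) := hfC
  haveI : Finite (Φ.obj ((EtModD.extSheaf S.X₃ 1).obj T)) := hfC1
  have x₁ := (ShortComplex.ShortExact.moduleCat_exact_iff_function_exact _).1 (e₁.map Φ)
  have x₂ := (ShortComplex.ShortExact.moduleCat_exact_iff_function_exact _).1 (e₂.map Φ)
  have x₃ := (ShortComplex.ShortExact.moduleCat_exact_iff_function_exact _).1 (e₃.map Φ)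
  have hsurj : Function.Surjective (Φ.map h) := (ModuleCat.epi_iff_surjective (Φ.map h)).1 inferInstance
  haveI : Finite (Φ.obj ((EtModD.sheafHom S.X₂).obj T)) :=
    finite_middle (Φ.map f).hom.toAddMonoidHom (Φ.map g).hom.toAddMonoidHom x₁
  haveI hfE : Finite (Φ.obj ((EtModD.extSheaf S.X₂ 1).obj T)) := Finite.of_surjective (Φ.map h) hsurj
  refine ⟨hfE, ?_⟩
  have key := card_five (Φ.map f).hom.toAddMonoidHom (Φ.map g).hom.toAddMonoidHom (Φ.map d).hom.toAddMonoidHom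
    (Φ.map h).hom.toAddMonoidHom ((ModuleCat.mono_iff_injective (Φ.map f)).1 inferInstance) x₁ x₂ x₃ hsurj
  have hc1 : Nat.card (Φ.obj ((EtModD.extSheaf S.X₃ 1).obj T)) = Nat.card (Φ.obj ((EtModD.sheafHom S.X₃).obj T)) := hcardC
  have hm : Nat.card (Φ.obj ((EtModD.sheafHom S.X₁).obj T)) = Nat.card M := hcardM
  rw [hc1, hm, mul_comm (Nat.card (Φ.obj ((EtModD.sheafHom S.X₂).obj T))), mul_assoc] at key
  have h2 := Nat.eq_of_mul_eq_mul_left Nat.card_pos key
  exact (mul_comm _ _).trans h2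

end Groth.Agent.Et18.PushDual
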