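import Groth.Agent.Et18.PushDual.Boundary

/-!
# Sheaf Ext out of the direct image of a locally constant sheaf
-/

universe u

open CategoryTheory CategoryTheory.Limits AlgebraicGeometry Opposite MonoidalCategory
open Groth.Agent.Et18 Groth.Agent.SiteCoh Groth.Agent.Et18.Mod Groth.Agent.Et18.ExtSheaf

set_option backward.isDefEq.respectTransparency.types false
set_option backward.isDefEq.respectTransparency false
set_option synthInstance.maxHeartbeats 200000
set_option maxHeartbeats 1000000
set_option linter.all false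

noncomputable section

namespace Groth.Agent.Et18.PushDual

variable (n : ℕ) [NeZero n] {X U : Scheme.{u}} [AlgebraicGeometry.IsNoetherian X]
    (hreg : ∀ x : X, IsRegularLocalRing (X.presheaf.stalk x))
    (hdim : ∀ x : X, ringKrullDim (X.presheaf.stalk x) ≤ 1) (hn : IsUnit (n : Γ(X, ⊤)))
    (j : U ⟶ X) [IsOpenImmersion j] (hU : Dense (Set.range j.base))
include hreg hdim hn hU

omit [NeZero n] hreg hn in
theorem dim_one_of_notMem (y : X) (hy : y ∉ Set.range j.base) : ringKrullDim (X.presheaf.stalk y) = 1 := by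
  have h := hdim y
  rw [ringKrullDim_stalk_eq_coheight] at h ⊢
  have h' : Order.coheight y ≤ 1 := by exact_mod_cast h
  rcases (ENat.le_one_iff_eq_zero_or_eq_one.1 h') with h1 | h1
  · exfalso
    obtain ⟨O, hyO, hO⟩ := exists_generic_open y (by rw [ringKrullDim_stalk_eq_coheight, h1]; rfl)
    obtain ⟨z, hzO, hzU⟩ := hU.inter_open_nonempty O O.isOpen ⟨y, hyO⟩
    exact hy ((hO z hzO).mem_open j.isOpenEmbedding.isOpen_range hzU)
  · rw [h1]; rfl

omit hn in
theorem nonempty_hom_push' (F : EtModW.Mod (ULift.{u + 1} (ZMod n)) U) [EtModD.HasSheafHom F]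
    [EtModD.HasSheafHom ((EtModW.push (ULift.{u + 1} (ZMod n)) j).obj F)] :
    Nonempty ((EtModD.sheafHom ((EtModW.push (ULift.{u + 1} (ZMod n)) j).obj F)).obj (Mod.unitSh (ULift.{u + 1} (ZMod n)) X) ≅
      (EtModW.push (ULift.{u + 1} (ZMod n)) j).obj ((EtModD.sheafHom F).obj (Mod.unitSh (ULift.{u + 1} (ZMod n)) U))) :=
  nonempty_hom_push n hreg hdim j (dim_one_of_notMem hdim j hU) F

theorem isZero_ext_push (F : EtModW.Mod (ULift.{u + 1} (ZMod n)) U)
    (hF : EtModW.IsFTLocConst (ULift.{u + 1} (ZMod n)) F) [EtModD.HasSheafHom F]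
    [EtModD.HasSheafHom ((EtModW.push (ULift.{u + 1} (ZMod n)) j).obj F)] (i : ℕ) (hi : 0 < i) :
    IsZero ((EtModD.extSheaf ((EtModW.push (ULift.{u + 1} (ZMod n)) j).obj F) i).obj (Mod.unitSh (ULift.{u + 1} (ZMod n)) X)) := by
  let Λ := ULift.{u + 1} (ZMod n)
  let G := (EtModW.push Λ j).obj F
  have hY1 := dim_one_of_notMem hdim j hU
  obtain ⟨p, rfl⟩ : ∃ p, i = p + 1 := ⟨i - 1, by omega⟩
  refine Mod.isZero_of_stalks fun x => ?_
  by_cases hx : x ∈ Set.range j.base
  · obtain ⟨y, rfl⟩ := hx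
    let W : X.Etale := mkEt j
    have hc := Mod.isIso_counit_app j F
    haveI : EtModD.HasSheafHom ((EtSix.restrMod (ULift.{u + 1} (ZMod n)) W.hom).obj G) := Mod.hasSheafHom _
    haveI : EtModD.HasSheafHom ((EtSix.restrMod Λ j).obj G) := ‹EtModD.HasSheafHom ((EtSix.restrMod (ULift.{u + 1} (ZMod n)) W.hom).obj G)›
    refine (Mod.isZero_stalk_iff _ (sepPoint X (j y)) (sepPoint U y ≫ W.hom)
      ((sepPoint_default X (j y)).trans (congrArg j (sepPoint_default U y)).symm)).2 ?_
    refine (isZero_stalk_ext_iff n W G (sepPoint U y) (p + 1)).2 ((EtModW.stalk _ _).map_isZero ?_)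
    let e : (EtSix.restrMod Λ j).obj G ≅ F := (Mod.pullRestrIso Λ j).symm.app G ≪≫
      (@asIso _ _ _ _ ((Mod.pullPushAdj Λ j).counit.app F) hc)
    exact isZero_ext_of_iso n e _ _ (isZero_ext_ftlc n hF p)
  refine (Mod.isZero_stalk_iff _ (sepPoint X x) (pt x) ((sepPoint_default X x).trans (pt_default x).symm)).2 ?_
  obtain ⟨h2, h1f, h1⟩ := boundary n hreg hdim hn j hY1 hF x hx
  rcases p with _ | _ | p
  · haveI : EtModD.HasSheafHom (Du F) := Mod.hasSheafHom _
    haveI : EtModD.HasSheafHom ((EtModW.push Λ j).obj (Du F)) := Mod.hasSheafHom _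
    obtain ⟨-, hf', h1'⟩ := boundary n hreg hdim hn j hY1 (isFTLocConst_du n hF) x hx
    haveI := isIso_bidual hF
    have e := Nat.card_congr ((EtModW.stalk Λ (pt x)).mapIso ((EtModW.push Λ j).mapIso (asIso (bidual n F)))).toLinearEquiv.toEquiv
    obtain ⟨hfG, -, -⟩ := card_stalk_Rpush_one n j x hreg hdim hn hY1 hx hF
    obtain ⟨hfD, -, -⟩ := card_stalk_Rpush_one n j x hreg hdim hn hY1 hx (isFTLocConst_du n hF)
    haveI := h1f
    haveI := hfG
    haveI := hfD
    haveI := hf'
    rw [← e] at h1'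
    set b := Nat.card ((EtModW.stalk Λ (pt x)).obj G) with hb
    set c := Nat.card ((EtModW.stalk Λ (pt x)).obj ((EtModW.push Λ j).obj (Du F))) with hc
    have hbpos : 0 < b := Nat.card_pos
    have hcb : c ≤ b := h1' ▸ Nat.le_mul_of_pos_left c Nat.card_pos
    have hle : Nat.card ((EtModW.stalk Λ (pt x)).obj ((EtModD.extSheaf G 1).obj (Mod.unitSh Λ X))) ≤ 1 :=
      Nat.le_of_mul_le_mul_right (by rw [h1, one_mul]; exact hcb) hbpos
    exact @ModuleCat.isZero_of_subsingleton _ _ _ (Finite.card_le_one_iff_subsingleton.1 hle)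
  · exact h2
  · haveI : IsLocallyNoetherian U := LocallyOfFiniteType.isLocallyNoetherian j
    haveI : TopologicalSpace.NoetherianSpace ↥U := j.isEmbedding.isInducing.noetherianSpace
    haveI : QuasiCompact j := inferInstance
    haveI : IsSeparated j := inferInstance
    haveI : LocallyQuasiFinite j := inferInstance
    haveI : PreservesFiniteLimits (EtModW.push Λ j) :=
      haveI : PreservesLimitsOfSize.{0, 0} (EtModW.push Λ j) := (Mod.pullPushAdj Λ j).rightAdjoint_preservesLimits
      PreservesLimitsOfSize.preservesFiniteLimits _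
    have hG : EtModW.IsConstructible Λ G := Mod.isConstructible_of_iso
      (isConstructible_Rpush_qf n hdim hn j (Mod.isConstructible_of_isFTLocConst hF) 0)
      ((EtModW.push Λ j).rightDerivedZeroIsoSelf.app F)
    exact isZero_stalk_ext n hreg hdim hn hG (pt x) 1 (by rw [pt_default]; exact_mod_cast hY1 x hx) _ (by omega)

end Groth.Agent.Et18.PushDual
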