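import Groth.Agent.Et18.PurityDimOne.Main
import Groth.Agent.Et18.ConsDimOne.Main
import Groth.Agent.Et18.Mod.QInjTerms
import Groth.Agent.Et18.FLCMod
import Groth.Agent.Et18.EulerDVR.Main

/-!
# Stalks of direct images at a missing closed point, by the punctured strict localisation
-/

universe u

open CategoryTheory CategoryTheory.Limits AlgebraicGeometry Opposite IsLocalRing
open Groth.Agent.Et18 Groth.Agent.SiteCoh

set_option backward.isDefEq.respectTransparency.types false
set_option backward.isDefEq.respectTransparency false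
set_option synthInstance.maxHeartbeats 200000
set_option maxHeartbeats 1000000
set_option linter.all false

noncomputable section

namespace Groth.Agent.Et18.PushDual

section PullForget

variable {Λ : Type (u + 1)} [CommRing Λ] {X Y : Scheme.{u}} (f : X ⟶ Y)

/-- Comparison of the two inverse images. -/
def pullForget (E : EtModW.Mod Λ Y) :
    (EtCoh.pull f).obj ((EtModD.forgetToAb Λ Y).obj E) ⟶ (EtModD.forgetToAb Λ X).obj ((EtModW.pull Λ f).obj E) :=
  ((EtCoh.pullPushAdj f).homEquiv _ _).symm ((EtModD.forgetToAb Λ Y).map ((modAdj Λ f).unit.app E))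

theorem unit_pullForget (E : EtModW.Mod Λ Y) :
    (EtCoh.pullPushAdj f).unit.app ((EtModD.forgetToAb Λ Y).obj E) ≫ (EtCoh.push f).map (pullForget f E) =
      (EtModD.forgetToAb Λ Y).map ((modAdj Λ f).unit.app E) :=
  ((EtCoh.pullPushAdj f).homEquiv_unit _ _ _).symm.trans (((EtCoh.pullPushAdj f).homEquiv _ _).apply_symm_apply _)

theorem pullForget_nat {E E' : EtModW.Mod Λ Y} (a : E ⟶ E') :
    (EtCoh.pull f).map ((EtModD.forgetToAb Λ Y).map a) ≫ pullForget f E' =
      pullForget f E ≫ (EtModD.forgetToAb Λ X).map ((EtModW.pull Λ f).map a) := by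
  apply ((EtCoh.pullPushAdj f).homEquiv _ _).injective
  rw [Adjunction.homEquiv_naturality_left, pullForget, Equiv.apply_symm_apply,
    Adjunction.homEquiv_naturality_right, pullForget, Equiv.apply_symm_apply]
  refine (Functor.map_comp (EtModD.forgetToAb Λ Y) a _).symm.trans ?_
  refine (congrArg (EtModD.forgetToAb Λ Y).map ((modAdj Λ f).unit.naturality a)).trans ?_
  exact Functor.map_comp (EtModD.forgetToAb Λ Y) _ _

instance isIso_pullForget (E : EtModW.Mod Λ Y) : IsIso (pullForget f E) := by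
  refine Et18.isIso_of_stalks _ fun x => (ConcreteCategory.isIso_iff_bijective _).2 ?_
  let ξ := sepPoint X x
  let Φ := Scheme.pointSmallEtale ξ
  let Ψ := Φ.comap (EtCoh.bc f) (EtCoh.coverPreserving_bc f)
  let G := (EtModD.forgetToAb Λ Y).obj E
  let cA := Φ.sheafFiberComapIso (EtCoh.bc f) (EtCoh.coverPreserving_bc f) AddCommGrpCat.{u + 1}
  let cM := Φ.sheafFiberComapIso (EtCoh.bc f) (EtCoh.coverPreserving_bc f) (ModuleCat.{u + 1} Λ)
  let PM := (EtModW.pull Λ f).obj E
  let ηM := ((modAdj Λ f).unit.app E).hom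
  have hgA : ∀ (V : Y.Etale) (y : Φ.fiber.obj ((EtCoh.bc f).obj V)) (s : G.obj.obj (op V)),
      cA.hom.app G (Ψ.toPresheafFiber V y G.obj s) =
        Φ.toPresheafFiber ((EtCoh.bc f).obj V) y ((EtCoh.pull f).obj G).obj
          (((EtCoh.pullPushAdj f).unit.app G).hom.app (op V) s) := fun V y s => by
    let η := (EtCoh.pullPushAdj f).unit.app G
    have h1 : Ψ.sheafFiber.map η ≫ Et18.pushFiberMap Φ (EtCoh.bc f) (EtCoh.coverPreserving_bc f) AddCommGrpCat.{u + 1}
        ((EtCoh.pull f).obj G) = cA.hom.app G := by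
      rw [Et18.pushFiberMap]
      refine (Category.assoc _ _ _).symm.trans ?_
      refine (congrArg (· ≫ _) (cA.hom.naturality η)).trans ?_
      refine (Category.assoc _ _ _).trans ?_
      refine (congrArg (cA.hom.app G ≫ ·) ((Functor.map_comp Φ.sheafFiber _ _).symm.trans
        (congrArg Φ.sheafFiber.map ((EtCoh.pullPushAdj f).left_triangle_components G)))).trans ?_
      rw [CategoryTheory.Functor.map_id]
      exact Category.comp_id _
    have h2 : Ψ.toPresheafFiber V y G.obj ≫ cA.hom.app G =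
        η.hom.app (op V) ≫ Φ.toPresheafFiber ((EtCoh.bc f).obj V) y ((EtCoh.pull f).obj G).obj := by
      rw [← h1, ← Et18.toPresheafFiber_pushFiberMap Φ (EtCoh.bc f) (EtCoh.coverPreserving_bc f)
        AddCommGrpCat.{u + 1} ((EtCoh.pull f).obj G) V y]
      refine (Category.assoc _ _ _).symm.trans ?_
      refine (congrArg (· ≫ _) (Ψ.toPresheafFiber_naturality η.hom V y)).trans ?_
      exact Category.assoc _ _ _
    exact congrArg (fun k => k s) h2
  have hgM : ∀ (V : Y.Etale) (y : Φ.fiber.obj ((EtCoh.bc f).obj V)) (s : E.obj.obj (op V)),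
      cM.hom.app E (Ψ.toPresheafFiber V y E.obj s) =
        Φ.toPresheafFiber ((EtCoh.bc f).obj V) y PM.obj (ηM.app (op V) s) := fun V y s => by
    let η := (modAdj Λ f).unit.app E
    have h1 : Ψ.sheafFiber.map η ≫ Et18.pushFiberMap Φ (EtCoh.bc f) (EtCoh.coverPreserving_bc f) (ModuleCat.{u + 1} Λ)
        PM = cM.hom.app E := by
      rw [Et18.pushFiberMap]
      refine (Category.assoc _ _ _).symm.trans ?_
      refine (congrArg (· ≫ _) (cM.hom.naturality η)).trans ?_
      refine (Category.assoc _ _ _).trans ?_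
      refine (congrArg (cM.hom.app E ≫ ·) ((Functor.map_comp Φ.sheafFiber _ _).symm.trans
        (congrArg Φ.sheafFiber.map ((modAdj Λ f).left_triangle_components E)))).trans ?_
      rw [CategoryTheory.Functor.map_id]
      exact Category.comp_id _
    have h2 : Ψ.toPresheafFiber V y E.obj ≫ cM.hom.app E =
        η.hom.app (op V) ≫ Φ.toPresheafFiber ((EtCoh.bc f).obj V) y PM.obj := by
      rw [← h1, ← Et18.toPresheafFiber_pushFiberMap Φ (EtCoh.bc f) (EtCoh.coverPreserving_bc f)
        (ModuleCat.{u + 1} Λ) PM V y]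
      refine (Category.assoc _ _ _).symm.trans ?_
      refine (congrArg (· ≫ _) (Ψ.toPresheafFiber_naturality η.hom V y)).trans ?_
      exact Category.assoc _ _ _
    exact congrArg (fun k => k s) h2
  have hsA : Function.Bijective (cA.hom.app G) := ConcreteCategory.bijective_of_isIso _
  have hsM : Function.Bijective (cM.hom.app E) := ConcreteCategory.bijective_of_isIso _
  have hA : ∀ (V : Y.Etale) (y : Φ.fiber.obj ((EtCoh.bc f).obj V)) (s : G.obj.obj (op V)),
      (EtCoh.stalk ξ).map (pullForget f E) (cA.hom.app G (Ψ.toPresheafFiber V y G.obj s)) =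
        Φ.toPresheafFiber ((EtCoh.bc f).obj V) y ((EtModD.forgetToAb Λ X).obj PM).obj (ηM.app (op V) s) := by
    intro V y s
    refine (congrArg ((EtCoh.stalk ξ).map (pullForget f E)) (hgA V y s)).trans ?_
    refine (Φ.toPresheafFiber_naturality_apply (pullForget f E).hom _ y _).trans ?_
    refine congrArg (Φ.toPresheafFiber ((EtCoh.bc f).obj V) y ((EtModD.forgetToAb Λ X).obj PM).obj) ?_
    exact congrArg (fun k => k.hom.app (op V) s) (unit_pullForget f E)
  constructor
  · intro p q hpq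
    obtain ⟨p, rfl⟩ := hsA.2 p
    obtain ⟨q, rfl⟩ := hsA.2 q
    obtain ⟨V, y, s, t, rfl, rfl⟩ := Ψ.toPresheafFiber_jointly_surjective₂ (P := G.obj) p q
    congr 1
    replace hpq := (hA V y s).symm.trans (hpq.trans (hA V y t))
    obtain ⟨W, g, w, hw, hst⟩ := (Φ.toPresheafFiber_eq_iff' (P := ((EtModD.forgetToAb Λ X).obj PM).obj) _ _ _ _).mp hpq
    have h1 : Φ.toPresheafFiber ((EtCoh.bc f).obj V) y PM.obj (ηM.app (op V) s) =
        Φ.toPresheafFiber ((EtCoh.bc f).obj V) y PM.obj (ηM.app (op V) t) :=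
      (Φ.toPresheafFiber_eq_iff' (P := PM.obj) _ _ _ _).mpr ⟨W, g, w, hw, hst⟩
    rw [← hgM, ← hgM] at h1
    obtain ⟨V', a, y', hy', hst'⟩ := (Ψ.toPresheafFiber_eq_iff' (P := E.obj) _ _ _ _).mp (hsM.1 h1)
    exact (Ψ.toPresheafFiber_eq_iff' (P := G.obj) _ _ _ _).mpr ⟨V', a, y', hy', hst'⟩
  · intro p
    obtain ⟨W, w, z, rfl⟩ := Φ.toPresheafFiber_jointly_surjective (P := ((EtModD.forgetToAb Λ X).obj PM).obj) p
    obtain ⟨a, ha⟩ := hsM.2 (Φ.toPresheafFiber W w PM.obj z)
    obtain ⟨V, y, s, rfl⟩ := Ψ.toPresheafFiber_jointly_surjective (P := E.obj) a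
    refine ⟨cA.hom.app G (Ψ.toPresheafFiber V y G.obj s), (hA V y s).trans ?_⟩
    rw [hgM] at ha
    let e₁ : Φ.fiber.Elements := ⟨(EtCoh.bc f).obj V, y⟩
    let e₂ : Φ.fiber.Elements := ⟨W, w⟩
    let m := IsCofiltered.min e₁ e₂
    let g₁ := (IsCofiltered.minToLeft e₁ e₂).1
    let g₂ := (IsCofiltered.minToRight e₁ e₂).1
    have hg₁ : Φ.fiber.map g₁ m.2 = y := (IsCofiltered.minToLeft e₁ e₂).2
    have hg₂ : Φ.fiber.map g₂ m.2 = w := (IsCofiltered.minToRight e₁ e₂).2
    rw [← hg₁, ← hg₂, ← Φ.toPresheafFiber_w_apply g₁ m.2 PM.obj, ← Φ.toPresheafFiber_w_apply g₂ m.2 PM.obj] at ha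
    obtain ⟨Z, k, z₀, hz, he⟩ := (Φ.toPresheafFiber_eq_iff' (P := PM.obj) _ _ _ _).mp ha
    rw [← hg₁, ← hg₂, ← Φ.toPresheafFiber_w_apply g₁ m.2 ((EtModD.forgetToAb Λ X).obj PM).obj,
      ← Φ.toPresheafFiber_w_apply g₂ m.2 ((EtModD.forgetToAb Λ X).obj PM).obj]
    exact (Φ.toPresheafFiber_eq_iff' (P := ((EtModD.forgetToAb Λ X).obj PM).obj) _ _ _ _).mpr ⟨Z, k, z₀, hz, he⟩

end PullForget

/-- Maps out of the constant sheaf `Λ` are global sections. -/
def homSectEquiv {Λ : Type (u + 1)} [CommRing Λ] {X : Scheme.{u}} (Z : EtModW.Mod Λ X) :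
    (Mod.unitSh Λ X ⟶ Z) ≃ Z.obj.obj (op (EtCoh.top X)) :=
  ((constantSheafAdj X.smallEtaleTopology (ModuleCat.{u + 1} Λ) (EtCore.topIsTerminal X)).homEquiv
      (ModuleCat.of Λ Λ) Z).trans (ModuleCat.homEquiv.trans (LinearMap.ringLmapEquivSelf Λ Λ _).toEquiv)

theorem card_hom_unit {Λ : Type (u + 1)} [CommRing Λ] {X : Scheme.{u}} (Z : EtModW.Mod Λ X) :
    Nat.card (Mod.unitSh Λ X ⟶ Z) = Nat.card (EtCoh.H X ((EtModD.forgetToAb Λ X).obj Z) 0) :=
  (Nat.card_congr (homSectEquiv Z)).trans (Nat.card_congr (EulerDVR.hZeroEquiv ((EtModD.forgetToAb Λ X).obj Z))).symm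

variable (n : ℕ) [NeZero n] {X U : Scheme.{u}} (j : U ⟶ X) [IsOpenImmersion j] (x : X)

/-- The punctured strict localisation at `x`. -/
abbrev punct : Scheme.{u} :=
  pullback j (Hens2.specOf X x (HenselLib.LocalSH (X.presheaf.stalk x)))

/-- Its map to the open. -/
abbrev punctMap : punct j x ⟶ U := pullback.fst j (Hens2.specOf X x (HenselLib.LocalSH (X.presheaf.stalk x)))

instance : Hensel.IsStrictHenselization (X.presheaf.stalk x) (HenselLib.LocalSH (X.presheaf.stalk x)) :=
  HenselLib.isStrictHenselization_localSH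

instance : IsSepClosed (ResidueField (HenselLib.LocalSH (X.presheaf.stalk x))) :=
  (HenselLib.isSepClosure_residueField_localSH (R := X.presheaf.stalk x)).sep_closed

/-- The geometric point at `x`. -/
abbrev pt : Spec (CommRingCat.of (ResidueField (HenselLib.LocalSH (X.presheaf.stalk x)))) ⟶ X :=
  Hens2.geomPt X x (HenselLib.LocalSH (X.presheaf.stalk x))

theorem pt_default : pt x default = x := EtStalkLib.geomPt_default X x _

/-- Stalks of direct images are sections on the punctured strict localisation. -/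
theorem nonempty_stalk_push_iso [QuasiCompact j] [QuasiSeparated j] :
    Nonempty (EtModW.push (ULift.{u + 1} (ZMod n)) j ⋙ EtModW.stalk (ULift.{u + 1} (ZMod n)) (pt x) ⋙
        forget₂ (ModuleCat.{u + 1} (ULift.{u + 1} (ZMod n))) AddCommGrpCat.{u + 1} ≅
      EtModD.forgetToAb (ULift.{u + 1} (ZMod n)) U ⋙ EtCoh.pull (punctMap j x) ⋙ EtCoh.HF (punct j x) 0) := by
  obtain ⟨e⟩ := EtStalkLib.nonempty_stalk_Rpush_iso j x (HenselLib.LocalSH (X.presheaf.stalk x)) 0
  exact ⟨Functor.isoWhiskerLeft _ (ConsDimOne.stalkForgetIso (ULift.{u + 1} (ZMod n)) (pt x)).symm ≪≫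
    Functor.isoWhiskerLeft (EtModD.forgetToAb (ULift.{u + 1} (ZMod n)) U)
      (Functor.isoWhiskerRight (EtCoh.push j).rightDerivedZeroIsoSelf.symm (EtCoh.stalk (pt x)) ≪≫ e)⟩

variable [IsNoetherian X] (hreg : ∀ x : X, IsRegularLocalRing (X.presheaf.stalk x))
    (hdim : ∀ x : X, ringKrullDim (X.presheaf.stalk x) ≤ 1) (hn : IsUnit (n : Γ(X, ⊤)))
    (hY1 : ∀ y : X, y ∉ Set.range j.base → ringKrullDim (X.presheaf.stalk y) = 1) (hx : x ∉ Set.range j.base)
include hreg hdim hn hY1 hx

/-- The punctured strict localisation is the spectrum of a field, and finite locally constant sheaves on it are balanced. -/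
theorem punct_bal : (Nonempty (punct j x) ∧ Subsingleton (punct j x)) ∧
    (∀ G : EtCoh.Ab (punct j x), EtCoh.IsFiniteLocallyConstant G → n • 𝟙 G = 0 → EulerDVR.Bal G) ∧
    (∀ G : EtCoh.Ab (punct j x), n • 𝟙 G = 0 → Subsingleton (EtCoh.H (punct j x) G 2)) := by
  let A := X.presheaf.stalk x
  let R := HenselLib.LocalSH A
  haveI : IsNoetherianRing R := HenselLib.isNoetherianRing_localSH
  haveI := hreg x
  have hR : ringKrullDim R = ringKrullDim A := Groth.Agent.S0541.result A R
  obtain ⟨_, _⟩ := (HenselLib.exists_isDVR_iff_of_flat (R := A) (S := R) HenselLib.map_maximalIdeal_localSH hR).1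
    ((HenselLib.exists_isDVR_iff A).2 ⟨hreg x, hY1 x hx⟩)
  have hnR : IsUnit (n : R) := by
    simpa using (hn.map (X.presheaf.germ ⊤ x trivial).hom).map (algebraMap A R)
  let sp := Hens2.specOf X x R
  let h : punct j x ⟶ Spec (CommRingCat.of R) := pullback.snd j sp
  have hcp : closedPoint R ∉ Set.range h := by
    rw [show Set.range h = sp ⁻¹' Set.range j from Scheme.Pullback.range_snd j sp, Set.mem_preimage]
    intro hmem
    refine hx ?_
    have e : sp (closedPoint R) = Hens2.geomPt X x R default := by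
      haveI : IsLocalHom (CommRingCat.ofHom (residue R)).hom := inferInstanceAs (IsLocalHom (residue R))
      exact congrArg sp (((congrArg (Spec.map (CommRingCat.ofHom (residue R)))
        (Subsingleton.elim (α := ↥(Spec (CommRingCat.of (ResidueField R)))) default (closedPoint (ResidueField R)))).trans
        (Spec_closedPoint (f := CommRingCat.ofHom (residue R)))).symm)
    rw [← EtStalkLib.geomPt_default X x R, ← e]
    exact hmem
  have hbot : ∀ y : punct j x, (h y).asIdeal = ⊥ := fun y => by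
    by_contra hb
    exact hcp ⟨y, PrimeSpectrum.ext (IsLocalRing.eq_maximalIdeal ((h y).2.isMaximal hb))⟩
  haveI hsub : Subsingleton (punct j x) :=
    ⟨fun a b => h.isEmbedding.injective (PrimeSpectrum.ext ((hbot a).trans (hbot b).symm))⟩
  obtain ⟨r, hrU, hrx⟩ := PurityDimOne.exists_generization j hdim hY1 x
  obtain ⟨p, hp⟩ : r ∈ Set.range (X.fromSpecStalk x) := by rw [Scheme.range_fromSpecStalk]; exact hrx
  haveI : Module.FaithfullyFlat A R := Module.FaithfullyFlat.of_flat_of_isLocalHom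
  obtain ⟨q, hq⟩ := PrimeSpectrum.comap_surjective_of_faithfullyFlat (A := A) (B := R) p
  have hq' : sp q ∈ Set.range j := by
    rw [show sp q = r from (congrArg (X.fromSpecStalk x) hq).trans hp]
    exact hrU
  haveI hne : Nonempty (punct j x) := by
    obtain ⟨t, ht⟩ : q ∈ Set.range h := by
      rw [show Set.range h = sp ⁻¹' Set.range j from Scheme.Pullback.range_snd j sp]
      exact hq'
    exact ⟨t⟩
  obtain ⟨y⟩ := hne
  let g := (punct j x).fromSpecResidueField y
  haveI : IsClosedImmersion g := IsClosedImmersion.of_isPreimmersion g (by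
    rw [Scheme.range_fromSpecResidueField,
      show ({y} : Set (punct j x)) = Set.univ from Set.eq_univ_of_forall fun z => Subsingleton.elim z y]
    exact isClosed_univ)
  let S := Spec (CommRingCat.of R)
  letI : Algebra R (S.presheaf.stalk (h y)) := StructureSheaf.stalkAlgebra R (h y)
  haveI : IsLocalization.AtPrime (S.presheaf.stalk (h y)) (h y).asIdeal :=
    StructureSheaf.IsLocalization.to_stalk R (h y)
  let P := punct j x
  let ρ : S.presheaf.stalk (h y) →+* P.residueField y := (P.residue y).hom.comp (h.stalkMap y).hom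
  have hρ : Function.Surjective ρ := (P.residue_surjective y).comp (h.stalkMap_surjective y)
  haveI : IsLocalHom (P.residue y).hom := inferInstanceAs (IsLocalHom (IsLocalRing.residue (P.presheaf.stalk y)))
  haveI : IsLocalHom ρ := RingHom.isLocalHom_comp _ _
  let ψ : R →+* P.residueField y := ρ.comp (algebraMap R _)
  have hinj : Function.Injective ψ := (injective_iff_map_eq_zero ψ).2 fun b hb => by
    by_contra hb0
    have hu : IsUnit (algebraMap R (S.presheaf.stalk (h y)) b) :=
      (IsLocalization.AtPrime.isUnit_to_map_iff _ (h y).asIdeal b).2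
        (show b ∈ (h y).asIdeal.primeCompl by
          intro hmem; rw [SetLike.mem_coe, hbot y, Ideal.mem_bot] at hmem; exact hb0 hmem)
    exact (hu.map ρ).ne_zero hb
  letI : Algebra R (P.residueField y) := ψ.toAlgebra
  haveI : FaithfulSMul R (P.residueField y) := (faithfulSMul_iff_algebraMap_injective R _).2 hinj
  haveI : IsFractionRing R (P.residueField y) := IsFractionRing.of_field R _ fun z => by
    obtain ⟨w, rfl⟩ := hρ z
    obtain ⟨⟨a, b⟩, hw⟩ := IsLocalization.surj (h y).asIdeal.primeCompl w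
    have hb : ψ b ≠ 0 := fun h0 => b.2 (by
      rw [SetLike.mem_coe, show (b : R) = 0 from hinj (h0.trans (map_zero ψ).symm)]
      exact zero_mem _)
    exact ⟨a, b, ((eq_div_iff hb).2 ((map_mul ρ _ _).symm.trans (congrArg ρ hw)))⟩
  haveI : IsIso (EtCoh.pullPushAdj g).counit := isIso_counit_of_integral g
  have hpush : ∀ G : EtCoh.Ab P, Nonempty (G ≅ (EtCoh.push g).obj ((EtCoh.pull g).obj G)) := fun G => by
    obtain ⟨H, ⟨e⟩⟩ := essImage_push_of_supp_subset g G fun z hz =>
      absurd ((P.range_fromSpecResidueField y).superset (Subsingleton.elim z y)) hz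
    exact ⟨e.symm ≪≫ (EtCoh.push g).mapIso (((asIso (EtCoh.pullPushAdj g).counit).app H).symm ≪≫
      (EtCoh.pull g).mapIso e)⟩
  refine ⟨⟨⟨y⟩, hsub⟩, fun G hG hGn => ?_, fun G hGn => ?_⟩
  · obtain ⟨e⟩ := hpush G
    obtain ⟨h0, h1, h01⟩ := EulerDVR.bal R (P.residueField y) n (NeZero.ne n) hnR ((EtCoh.pull g).obj G)
      (isFLC_pull hG g) (EulerDVR.nsmul_id_map _ hGn)
    have hc : ∀ q, Nat.card (EtCoh.H P G q) = Nat.card (EtCoh.H _ ((EtCoh.pull g).obj G) q) := fun q =>
      (EulerDVR.card_H_of_iso e q).trans (EulerDVR.card_H_push g _ q)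
    exact ⟨Nat.finite_of_card_ne_zero (by rw [hc]; exact Nat.card_pos.ne'),
      Nat.finite_of_card_ne_zero (by rw [hc]; exact Nat.card_pos.ne'), (hc 0).trans (h01.trans (hc 1).symm)⟩
  · obtain ⟨e⟩ := hpush G
    have h2 : Subsingleton (EtCoh.H P ((EtCoh.push g).obj ((EtCoh.pull g).obj G)) 2) :=
      (CdField.subsingleton_H_push_iff g _ 2).2
        (CdSHFrac.subsingleton_H R (P.residueField y) n hnR _
          (KPiFinite.killedBy_of_nsmul_id (EulerDVR.nsmul_id_map _ hGn)) 2 le_rfl)
    refine ⟨fun a b => ?_⟩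
    rw [← EulerDVR.Hmap_id _ 2 a, ← EulerDVR.Hmap_id _ 2 b, ← e.hom_inv_id, EulerDVR.Hmap_comp,
      EulerDVR.Hmap_comp, Subsingleton.elim (EulerDVR.Hmap e.hom 2 a) (EulerDVR.Hmap e.hom 2 b)]

variable {Z Z' : EtModW.Mod (ULift.{u + 1} (ZMod n)) U}

omit [AlgebraicGeometry.IsNoetherian X] hreg hdim hn hY1 hx in
/-- The stalk of the direct image at the point counts sections on the punctured strict localisation. -/
theorem card_stalk_push [QuasiCompact j] [QuasiSeparated j] :
    Nat.card ((EtModW.stalk (ULift.{u + 1} (ZMod n)) (pt x)).obj ((EtModW.push _ j).obj Z)) =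
      Nat.card (Mod.unitSh (ULift.{u + 1} (ZMod n)) (punct j x) ⟶ (EtModW.pull _ (punctMap j x)).obj Z) := by
  obtain ⟨e⟩ := nonempty_stalk_push_iso n j x
  rw [card_hom_unit, ← EulerDVR.card_H_of_iso (asIso (pullForget (punctMap j x) Z)) 0]
  exact Nat.card_congr (e.app Z).addCommGroupIsoToAddEquiv.toEquiv

omit [AlgebraicGeometry.IsNoetherian X] hreg hdim hn hY1 hx in
/-- A map vanishing on the punctured strict localisation vanishes on the stalk of the direct image. -/
theorem stalk_push_map_eq_zero [QuasiCompact j] [QuasiSeparated j] (a : Z ⟶ Z')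
    (ha : (EtModW.pull _ (punctMap j x)).map a = 0) :
    (EtModW.stalk (ULift.{u + 1} (ZMod n)) (pt x)).map ((EtModW.push _ j).map a) = 0 := by
  obtain ⟨e⟩ := nonempty_stalk_push_iso n j x
  have h0 : (EtCoh.pull (punctMap j x)).map ((EtModD.forgetToAb _ U).map a) = 0 := by
    rw [← cancel_mono (pullForget (punctMap j x) Z'), pullForget_nat, ha]
    simp
  refine ModuleCat.hom_ext (LinearMap.ext fun z => ?_)
  apply (ConcreteCategory.bijective_of_isIso ((e.app Z').hom)).1
  have h1 := congrArg (fun k => k z) (e.hom.naturality a)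
  refine h1.trans ?_
  rw [show (EtModD.forgetToAb _ U ⋙ EtCoh.pull (punctMap j x) ⋙ EtCoh.HF (punct j x) 0).map a = 0 from
    (congrArg (EtCoh.HF (punct j x) 0).map h0).trans (Functor.map_zero _ _ _)]
  exact (map_zero _).symm

/-- `R¹j_*` is balanced with `j_*` at the point. -/
theorem card_stalk_Rpush_one (hZ : EtModW.IsFTLocConst (ULift.{u + 1} (ZMod n)) Z) :
    Finite ((EtModW.stalk (ULift.{u + 1} (ZMod n)) (pt x)).obj ((EtModW.push _ j).obj Z)) ∧
    Finite ((EtModW.stalk (ULift.{u + 1} (ZMod n)) (pt x)).obj ((EtModW.Rpush _ j 1).obj Z)) ∧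
    Nat.card ((EtModW.stalk (ULift.{u + 1} (ZMod n)) (pt x)).obj ((EtModW.Rpush _ j 1).obj Z)) =
      Nat.card ((EtModW.stalk (ULift.{u + 1} (ZMod n)) (pt x)).obj ((EtModW.push _ j).obj Z)) := by
  haveI : IsLocallyNoetherian U := LocallyOfFiniteType.isLocallyNoetherian j
  haveI : TopologicalSpace.NoetherianSpace ↥U := j.isEmbedding.isInducing.noetherianSpace
  haveI : QuasiCompact j := inferInstance
  haveI : QuasiSeparated j := inferInstance
  let R := HenselLib.LocalSH (X.presheaf.stalk x)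
  obtain ⟨e0⟩ := nonempty_stalk_push_iso n j x
  obtain ⟨c⟩ := ConsDimOne.nonempty_forget_Rpush (Λ := ULift.{u + 1} (ZMod n)) j 1 Z
  obtain ⟨e⟩ := EtStalkLib.nonempty_stalk_Rpush_iso j x R 1
  let Za := (EtModD.forgetToAb (ULift.{u + 1} (ZMod n)) U).obj Z
  let E := ((ConsDimOne.stalkForgetIso (ULift.{u + 1} (ZMod n)) (pt x)).app _).symm ≪≫
    (EtCoh.stalk (pt x)).mapIso c ≪≫ e.app Za
  obtain ⟨h0, h1, h01⟩ := (punct_bal n j x hreg hdim hn hY1 hx).2.1 ((EtCoh.pull (punctMap j x)).obj Za)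
    (isFLC_pull (ConsDimOne.isFLC_forget _ hZ) _) (EulerDVR.nsmul_id_map _ (ConsDimOne.nsmul_id_forget n Z))
  refine ⟨@Finite.of_equiv _ _ h0 (e0.app Z).addCommGroupIsoToAddEquiv.symm.toEquiv,
    @Finite.of_equiv _ _ h1 E.addCommGroupIsoToAddEquiv.symm.toEquiv, ?_⟩
  exact (Nat.card_congr E.addCommGroupIsoToAddEquiv.toEquiv).trans (h01.symm.trans
    (Nat.card_congr (e0.app Z).addCommGroupIsoToAddEquiv.toEquiv).symm)

end Groth.Agent.Et18.PushDual
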