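import Mathlib.GroupTheory.FiniteAbelian.Duality
import Mathlib.RingTheory.RootsOfUnity.AlgebraicallyClosed
import Mathlib.Analysis.Complex.Polynomial.Basic
import Mathlib.Data.ZMod.Basic

/-!
# Duals of finite `Z/n`-modules
-/

universe u v

namespace Groth.Agent.Et18.PushDual

variable (n : ℕ) [NeZero n] {A : Type v} [AddCommGroup A] [Module (ULift.{u} (ZMod n)) A]

theorem nsmul_eq_zero_of_module (a : A) : n • a = 0 := by
  rw [← Nat.cast_smul_eq_nsmul (ULift.{u} (ZMod n)), show ((n : ℕ) : ULift.{u} (ZMod n)) = 0 from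
    ULift.ext _ _ (by simp), zero_smul]

/-- Linear forms are characters. -/
noncomputable def dualEquivChar (ε : Multiplicative (ZMod n) ≃* rootsOfUnity n ℂ) :
    (A →ₗ[ULift.{u} (ZMod n)] ULift.{u} (ZMod n)) ≃ (Multiplicative A →* ℂˣ) where
  toFun f :=
    { toFun := fun a => (ε (Multiplicative.ofAdd (f a.toAdd).down) : ℂˣ)
      map_one' := by
        rw [toAdd_one, map_zero]
        exact congrArg Subtype.val (map_one ε)
      map_mul' := fun a b => by
        rw [toAdd_mul, map_add]
        exact congrArg Subtype.val (map_mul ε _ _) }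
  invFun φ :=
    let g : A →+ ULift.{u} (ZMod n) :=
      { toFun := fun a => ULift.up (ε.symm ⟨φ (Multiplicative.ofAdd a), by
          rw [mem_rootsOfUnity, ← map_pow, ← ofAdd_nsmul, nsmul_eq_zero_of_module n a, ofAdd_zero, map_one]⟩).toAdd
        map_zero' := by
          refine ULift.ext _ _ ?_
          show (ε.symm _).toAdd = 0
          rw [show (⟨φ (Multiplicative.ofAdd (0 : A)), _⟩ : rootsOfUnity n ℂ) = 1 from
            Subtype.ext φ.map_one, map_one]
          rfl
        map_add' := fun a b => by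
          refine ULift.ext _ _ ?_
          show (ε.symm _).toAdd = (ε.symm _).toAdd + (ε.symm _).toAdd
          rw [← toAdd_mul, ← map_mul]
          exact congrArg (fun z => (ε.symm z).toAdd) (Subtype.ext (φ.map_mul (Multiplicative.ofAdd a) (Multiplicative.ofAdd b))) }
    { g with
      map_smul' := fun c a => by
        obtain ⟨k, hk⟩ := ZMod.natCast_zmod_surjective c.down
        have hc : c = (k : ULift.{u} (ZMod n)) := ULift.ext _ _ (by simp [hk])
        show g (c • a) = c • g a
        rw [hc, Nat.cast_smul_eq_nsmul, map_nsmul, Nat.cast_smul_eq_nsmul] }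
  left_inv f := LinearMap.ext fun a => ULift.ext _ _ (by
    show (ε.symm ⟨(ε (Multiplicative.ofAdd (f a).down) : ℂˣ), _⟩).toAdd = (f a).down
    rw [Subtype.coe_eta, MulEquiv.symm_apply_apply]
    rfl)
  right_inv φ := MonoidHom.ext fun a => by
    show (ε (Multiplicative.ofAdd (Multiplicative.toAdd (ε.symm _))) : ℂˣ) = φ a
    rw [ofAdd_toAdd, MulEquiv.apply_symm_apply]
    rfl

theorem nonempty_rootsEquiv : Nonempty (Multiplicative (ZMod n) ≃* rootsOfUnity n ℂ) :=
  ⟨mulEquivOfCyclicCardEq (by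
    rw [Nat.card_eq_fintype_card, Fintype.card_multiplicative, ZMod.card, HasEnoughRootsOfUnity.natCard_rootsOfUnity])⟩

theorem card_zdual [Finite A] :
    Nat.card (A →ₗ[ULift.{u} (ZMod n)] ULift.{u} (ZMod n)) = Nat.card A := by
  obtain ⟨ε⟩ := nonempty_rootsEquiv n
  rw [Nat.card_congr (dualEquivChar n ε), CommGroup.card_monoidHom_of_hasEnoughRootsOfUnity]
  exact Nat.card_congr Multiplicative.toAdd

theorem exists_zdual_ne [Finite A] {a : A} (ha : a ≠ 0) :
    ∃ f : A →ₗ[ULift.{u} (ZMod n)] ULift.{u} (ZMod n), f a ≠ 0 := by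
  obtain ⟨ε⟩ := nonempty_rootsEquiv n
  obtain ⟨φ, hφ⟩ := CommGroup.exists_apply_ne_one_of_hasEnoughRootsOfUnity (Multiplicative A) ℂ
    (a := Multiplicative.ofAdd a) ha
  refine ⟨(dualEquivChar n ε).symm φ, fun h => hφ ?_⟩
  rw [← (dualEquivChar n ε).apply_symm_apply φ]
  show (ε (Multiplicative.ofAdd (((dualEquivChar n ε).symm φ) a).down) : ℂˣ) = 1
  rw [h]
  exact congrArg Subtype.val (map_one ε)

end Groth.Agent.Et18.PushDual
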